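import Groth.Prelude.Def_LocCohZ
import Mathlib.Topology.Sheaves.SheafCondition.UniqueGluing

/-!
Sections of the sheaf of sections supported in a closed subset.
-/

set_option autoImplicit false

universe u

open CategoryTheory CategoryTheory.Limits Opposite TopologicalSpace

namespace Groth.Agent.LocZ

variable {X : TopCat.{u}} (U : Opens X)

theorem isOpenEmbedding_incl : Topology.IsOpenEmbedding (CohCx.incl U) := U.isOpenEmbedding

/-- the unit `F ⟶ j_* j⁻¹ F` -/
noncomputable abbrev eta (F : CohTop.Ab X) :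
    F ⟶ (CohTop.pull (CohCx.incl U) ⋙ CohTop.push (CohCx.incl U)).obj F :=
  (TopCat.Sheaf.pullbackPushforwardAdjunction AddCommGrpCat.{u} (CohCx.incl U)).unit.app F

/-- the adjunction given by the naive pullback along the open embedding -/
noncomputable def naiveAdj :
    (isOpenEmbedding_incl U).sheafPullback AddCommGrpCat.{u} ⊣
      TopCat.Sheaf.pushforward AddCommGrpCat.{u} (CohCx.incl U) :=
  haveI := (isOpenEmbedding_incl U).functor_isContinuous
  haveI : (Opens.map (CohCx.incl U)).IsContinuous (Opens.grothendieckTopology X)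
    (Opens.grothendieckTopology (TopCat.of U)) := Functor.isContinuous_of_coverPreserving (compatiblePreserving_opens_map _) (coverPreserving_opens_map _)
  (isOpenEmbedding_incl U).isOpenMap.adjunction.sheafPushforwardContinuous _ _

instance preservesFiniteLimits_secFun (V : Opens X) :
    PreservesFiniteLimits (sheafToPresheaf (Opens.grothendieckTopology X) AddCommGrpCat.{u} ⋙
      (evaluation (Opens X)ᵒᵖ AddCommGrpCat.{u}).obj (op V)) := by
  haveI : PreservesFiniteLimits (sheafToPresheaf (Opens.grothendieckTopology X) AddCommGrpCat.{u}) := inferInstance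
  exact comp_preservesFiniteLimits _ _

noncomputable def pullIso :
    TopCat.Sheaf.pullback AddCommGrpCat.{u} (CohCx.incl U) ≅
      (isOpenEmbedding_incl U).sheafPullback AddCommGrpCat.{u} :=
  (TopCat.Sheaf.pullbackPushforwardAdjunction AddCommGrpCat.{u} (CohCx.incl U)).leftAdjointUniq (naiveAdj U)

/-- the image of the preimage of an open -/
theorem image_preimage (V : Opens X) :
    (isOpenEmbedding_incl U).isOpenMap.functor.obj ((Opens.map (CohCx.incl U)).obj V) = V ⊓ U :=
  Opens.functor_map_eq_inf U V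

theorem map_eq_zero_congr (F : CohTop.Ab X) {V A B : Opens X} (e : A = B) (a : A ≤ V) (b : B ≤ V)
    (s : F.obj.obj (op V)) : F.obj.map (homOfLE a).op s = 0 ↔ F.obj.map (homOfLE b).op s = 0 := by
  subst e
  rfl

theorem eta_eq_zero_iff_naive (F : CohTop.Ab X) (V : Opens X) (s : F.obj.obj (op V)) :
    (eta U F).hom.app (op V) s = 0 ↔ ((naiveAdj U).unit.app F).hom.app (op V) s = 0 := by
  rw [← Adjunction.unit_leftAdjointUniq_hom_app
    (TopCat.Sheaf.pullbackPushforwardAdjunction AddCommGrpCat.{u} (CohCx.incl U)) (naiveAdj U) F]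
  let k := ((TopCat.Sheaf.pushforward AddCommGrpCat.{u} (CohCx.incl U)).mapIso ((pullIso U).app F))
  let m := ((sheafToPresheaf _ _).mapIso k).app (op V)
  show _ ↔ m.hom _ = 0
  exact (AddEquiv.map_eq_zero_iff m.addCommGroupIsoToAddEquiv).symm

theorem naive_unit_app (F : CohTop.Ab X) (V : Opens X) (s : F.obj.obj (op V)) :
    ∃ h : (isOpenEmbedding_incl U).isOpenMap.functor.obj ((Opens.map (CohCx.incl U)).obj V) ≤ V,
      ((naiveAdj U).unit.app F).hom.app (op V) s = F.obj.map (homOfLE h).op s :=
  ⟨leOfHom ((isOpenEmbedding_incl U).isOpenMap.adjunction.counit.app V), rfl⟩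

/-- `η` vanishes on a section iff the section vanishes on `U`. -/
theorem eta_eq_zero_iff (F : CohTop.Ab X) (V : Opens X) (s : F.obj.obj (op V)) :
    (eta U F).hom.app (op V) s = 0 ↔ F.obj.map (homOfLE (inf_le_left : V ⊓ U ≤ V)).op s = 0 := by
  obtain ⟨h, e⟩ := naive_unit_app U F V s
  rw [eta_eq_zero_iff_naive, e]
  exact map_eq_zero_congr F (image_preimage U V) h inf_le_left s

/-- sections over an open, as a functor -/
noncomputable abbrev secFun (V : Opens X) : CohTop.Ab X ⥤ AddCommGrpCat.{u} :=
  sheafToPresheaf (Opens.grothendieckTopology X) AddCommGrpCat.{u} ⋙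
    (evaluation (Opens X)ᵒᵖ AddCommGrpCat.{u}).obj (op V)

/-- inclusion of supported sections -/
noncomputable abbrev iota (F : CohTop.Ab X) : (LocCohZ.sectSuppF U).obj F ⟶ F := kernel.ι (eta U F)

theorem iota_natural {F G : CohTop.Ab X} (φ : F ⟶ G) :
    (LocCohZ.sectSuppF U).map φ ≫ iota U G = iota U F ≫ φ := by
  dsimp [LocCohZ.sectSuppF, iota]
  rw [kernel.lift_ι]

theorem iota_injective (F : CohTop.Ab X) (V : Opens X) : Function.Injective ((iota U F).hom.app (op V)) := by
  haveI : Mono (iota U F) := (inferInstance : Mono (kernel.ι (eta U F)))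
  have : Mono ((secFun V).map (iota U F)) := inferInstance
  exact (AddCommGrpCat.mono_iff_injective _).1 this

theorem exists_iota_iff (F : CohTop.Ab X) (V : Opens X) (s : F.obj.obj (op V)) :
    (∃ t, (iota U F).hom.app (op V) t = s) ↔ F.obj.map (homOfLE (inf_le_left : V ⊓ U ≤ V)).op s = 0 := by
  rw [← eta_eq_zero_iff]
  let S : ShortComplex (CohTop.Ab X) := ShortComplex.mk (iota U F) (eta U F) (kernel.condition _)
  have hS : S.Exact := ShortComplex.exact_of_f_is_kernel _ (kernelIsKernel _)
  haveI : Mono S.f := (inferInstance : Mono (kernel.ι _))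
  have hS' := hS.map_of_mono_of_preservesKernel (secFun V) inferInstance inferInstance
  constructor
  · rintro ⟨t, rfl⟩
    exact (S.map (secFun V)).ab_zero_apply t
  · exact fun h => (ShortComplex.ab_exact_iff _).1 hS' s h

/-- supported sections of a flasque sheaf form a flasque sheaf -/
theorem isFlasque_sectSuppF (F : CohTop.Ab X) [TopCat.Sheaf.IsFlasque F] :
    TopCat.Sheaf.IsFlasque ((LocCohZ.sectSuppF U).obj F) := by
  constructor
  intro V W i
  rw [AddCommGrpCat.epi_iff_surjective]
  intro t
  obtain ⟨V⟩ := V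
  obtain ⟨W⟩ := W
  have hWV : W ≤ V := leOfHom i.unop
  obtain rfl : i = (homOfLE hWV).op := Subsingleton.elim _ _
  let s : F.obj.obj (op W) := (iota U F).hom.app (op W) t
  have hs : F.obj.map (homOfLE (inf_le_left : W ⊓ U ≤ W)).op s = 0 := (exists_iota_iff U F W s).1 ⟨t, rfl⟩
  let A : Bool → Opens X := fun b => cond b W (V ⊓ U)
  let sf : ∀ b, F.obj.obj (op (A b)) := fun b => match b with
    | true => s
    | false => 0
  have hcompat : TopCat.Presheaf.IsCompatible F.obj A sf := by
    intro a b
    cases a <;> cases b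
    · rfl
    · show F.obj.map _ (0 : F.obj.obj (op (V ⊓ U))) = F.obj.map _ s
      rw [map_zero]
      have h1 : (V ⊓ U) ⊓ W ≤ W ⊓ U := le_inf inf_le_right (inf_le_left.trans inf_le_right)
      rw [Subsingleton.elim (Opens.infLERight (A false) (A true)) (homOfLE h1 ≫ homOfLE inf_le_left), op_comp,
        Functor.map_comp, ConcreteCategory.comp_apply, hs, map_zero]
    · show F.obj.map _ s = F.obj.map _ (0 : F.obj.obj (op (V ⊓ U)))
      rw [map_zero]
      have h1 : W ⊓ (V ⊓ U) ≤ W ⊓ U := le_inf inf_le_left (inf_le_right.trans inf_le_right)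
      rw [Subsingleton.elim (Opens.infLELeft (A true) (A false)) (homOfLE h1 ≫ homOfLE inf_le_left), op_comp,
        Functor.map_comp, ConcreteCategory.comp_apply, hs, map_zero]
    · rfl
  have hle : ∀ b, A b ≤ W ⊔ (V ⊓ U) := fun b => by cases b <;> simp [A]
  have hcov : W ⊔ (V ⊓ U) ≤ iSup A := sup_le (le_iSup A true) (le_iSup A false)
  obtain ⟨r, hr, -⟩ :=
    TopCat.Sheaf.existsUnique_gluing' (F := F) A (W ⊔ (V ⊓ U)) (fun b => homOfLE (hle b)) hcov sf hcompat
  obtain ⟨r', hr'⟩ := (AddCommGrpCat.epi_iff_surjective _).1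
    (TopCat.Presheaf.IsFlasque.epi (F := F.obj) (homOfLE (sup_le hWV inf_le_left) : W ⊔ (V ⊓ U) ⟶ V).op) r
  have hz : F.obj.map (homOfLE (inf_le_left : V ⊓ U ≤ V)).op r' = 0 := by
    have := hr false
    rw [← hr', ← ConcreteCategory.comp_apply, ← Functor.map_comp, ← op_comp] at this
    exact this
  obtain ⟨t', ht'⟩ := (exists_iota_iff U F V r').2 hz
  refine ⟨t', iota_injective U F W ?_⟩
  rw [NatTrans.naturality_apply (iota U F).hom, ht']
  have := hr true
  rw [← hr', ← ConcreteCategory.comp_apply, ← Functor.map_comp, ← op_comp] at this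
  exact this

end Groth.Agent.LocZ
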