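import Groth.Agent.LocZ.Basic
import Groth.Agent.Lead.Flasque.Closed
import Mathlib.Topology.Sheaves.Skyscraper
import Mathlib.CategoryTheory.Sites.DenseSubsite.Basic
import Mathlib.CategoryTheory.Adjunction.FullyFaithful

/-!
For the closed complement `i : Z → X` of an open `U`: `i_*` is fully faithful and left adjoint to
`F ↦ i⁻¹ Γ_Z F`.
-/

set_option autoImplicit false

universe u

open CategoryTheory CategoryTheory.Limits Opposite TopologicalSpace

namespace Groth.Agent.LocZ

variable {X : TopCat.{u}}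

theorem exists_preimage {Z : TopCat.{u}} {i : Z ⟶ X} (hi : Topology.IsInducing i) (W : Opens Z) :
    ∃ V : Opens X, (Opens.map i).obj V = W := by
  obtain ⟨V, hV, e⟩ := hi.isOpen_iff.1 W.2
  exact ⟨⟨V, hV⟩, Opens.ext e⟩

theorem isCoverDense_map {Z : TopCat.{u}} {i : Z ⟶ X} (hi : Topology.IsInducing i) :
    (Opens.map i).IsCoverDense (Opens.grothendieckTopology Z) := by
  refine ⟨fun W x hx => ?_⟩
  obtain ⟨V, hV⟩ := exists_preimage hi W
  exact ⟨W, 𝟙 W, ⟨⟨V, eqToHom hV.symm, eqToHom hV, Subsingleton.elim _ _⟩⟩, hx⟩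

theorem isLocallyFull_map {Z : TopCat.{u}} (i : Z ⟶ X) :
    (Opens.map i).IsLocallyFull (Opens.grothendieckTopology Z) := by
  refine ⟨fun {A B} f x hx => ?_⟩
  refine ⟨(Opens.map i).obj (A ⊓ B), (Opens.map i).map (homOfLE inf_le_left),
    ⟨A ⊓ B, homOfLE inf_le_left, 𝟙 _, ⟨homOfLE inf_le_right, Subsingleton.elim _ _⟩,
      Subsingleton.elim _ _⟩, ?_⟩
  exact ⟨hx, leOfHom f hx⟩

noncomputable def pushFF {Z : TopCat.{u}} {i : Z ⟶ X} (hi : Topology.IsInducing i) :
    (CohTop.push i).FullyFaithful :=
  haveI := isCoverDense_map hi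
  haveI := isLocallyFull_map i
  haveI : (Opens.map i).IsContinuous (Opens.grothendieckTopology X) (Opens.grothendieckTopology Z) :=
    Functor.isContinuous_of_coverPreserving (compatiblePreserving_opens_map _) (coverPreserving_opens_map _)
  haveI : (CohTop.push i).Full := Functor.IsCoverDense.full_sheafPushforwardContinuous _ _ _
  haveI : (CohTop.push i).Faithful := Functor.IsCoverDense.faithful_sheafPushforwardContinuous _ _ _
  Functor.FullyFaithful.ofFullyFaithful _

variable (U : Opens X)

theorem isInducing_inclCompl : Topology.IsInducing (CohCx.inclCompl U) := Topology.IsInducing.subtypeVal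

theorem isClosedEmbedding_inclCompl : Topology.IsClosedEmbedding (CohCx.inclCompl U) :=
  U.isOpen.isClosed_compl.isClosedEmbedding_subtypeVal

theorem subsingleton_push (G : CohTop.Ab (TopCat.of ((U : Set X)ᶜ : Set X))) (V : Opens X) (hV : V ≤ U) :
    Subsingleton (((CohTop.push (CohCx.inclCompl U)).obj G).obj.obj (op V)) := by
  have e : (Opens.map (CohCx.inclCompl U)).obj V = ⊥ := le_bot_iff.1 fun z hz => z.2 (hV hz)
  show Subsingleton (G.obj.obj (op ((Opens.map (CohCx.inclCompl U)).obj V)))
  rw [e]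
  exact Lead.Flasque.Top.subsingleton_sections_bot G

theorem subsingleton_supp (F : CohTop.Ab X) (V : Opens X) (hV : V ≤ U) :
    Subsingleton (((LocCohZ.sectSuppF U).obj F).obj.obj (op V)) := by
  refine subsingleton_of_forall_eq 0 fun t => iota_injective U F V ?_
  rw [map_zero]
  have h := (exists_iota_iff U F V _).1 ⟨t, rfl⟩
  obtain ⟨hw, -⟩ : V ≤ V ⊓ U ∧ True := ⟨le_inf le_rfl hV, trivial⟩
  have h' := congrArg (F.obj.map (homOfLE hw).op) h
  rw [map_zero, ← ConcreteCategory.comp_apply, ← Functor.map_comp, Subsingleton.elim (_ ≫ _) (𝟙 (op V)),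
    CategoryTheory.Functor.map_id] at h'
  exact h'

theorem isZero_stalk (P : CohTop.Ab X) (hP : ∀ V ≤ U, Subsingleton (P.obj.obj (op V))) (x : X) (hx : x ∈ U) :
    IsZero (TopCat.Presheaf.stalk (C := AddCommGrpCat.{u}) (X := X) P.obj x) := by
  haveI : Subsingleton (TopCat.Presheaf.stalk (C := AddCommGrpCat.{u}) (X := X) P.obj x) := by
    refine subsingleton_of_forall_eq 0 fun t => ?_
    obtain ⟨V, hV, s, rfl⟩ := TopCat.Presheaf.exists_germ_eq (C := AddCommGrpCat.{u}) (X := X) P.obj t
    rw [← TopCat.Presheaf.germ_res_apply (C := AddCommGrpCat.{u}) (X := X) P.obj (homOfLE (inf_le_left : V ⊓ U ≤ V)) x ⟨hV, hx⟩ s]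
    haveI := hP (V ⊓ U) inf_le_right
    erw [Subsingleton.elim (P.obj.map (homOfLE (inf_le_left : V ⊓ U ≤ V)).op s) 0, map_zero]
  exact AddCommGrpCat.isZero_of_subsingleton _

theorem isIso_unit (P : CohTop.Ab X) (hP : ∀ V ≤ U, Subsingleton (P.obj.obj (op V))) :
    IsIso ((TopCat.Sheaf.pullbackPushforwardAdjunction AddCommGrpCat.{u} (CohCx.inclCompl U)).unit.app P) := by
  classical
  let i := CohCx.inclCompl U
  let adj := TopCat.Sheaf.pullbackPushforwardAdjunction AddCommGrpCat.{u} i
  let η : P ⟶ (CohTop.push i).obj ((CohTop.pull i).obj P) := adj.unit.app P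
  haveI : ∀ x : X, IsIso ((TopCat.Presheaf.stalkFunctor AddCommGrpCat.{u} x).map η.hom) := by
    intro x
    by_cases hx : x ∈ U
    · exact Limits.IsZero.isIso (isZero_stalk U P hP x hx)
        (isZero_stalk U _ (subsingleton_push U _) x hx) _
    · apply isIso_of_coyoneda_map_bijective
      intro A
      let sk := stalkSkyscraperSheafAdjunction x (C := AddCommGrpCat.{u})
      let S : CohTop.Ab (TopCat.of ((U : Set X)ᶜ : Set X)) :=
        skyscraperSheaf (X := TopCat.of ((U : Set X)ᶜ : Set X)) ⟨x, hx⟩ A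
      have key : Function.Bijective
          (fun g : (CohTop.push i).obj ((CohTop.pull i).obj P) ⟶ (CohTop.push i).obj S => η ≫ g) := by
        have e : (fun g : (CohTop.push i).obj ((CohTop.pull i).obj P) ⟶ (CohTop.push i).obj S => η ≫ g) =
            adj.homEquiv P S ∘ (pushFF (isInducing_inclCompl U)).preimage := by
          funext g
          rw [Function.comp_apply, adj.homEquiv_unit, Functor.FullyFaithful.map_preimage]
          rfl
        rw [e]
        exact (adj.homEquiv P S).bijective.comp ((pushFF (isInducing_inclCompl U)).homEquiv.symm.bijective)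
      let e0 := sk.homEquiv P A
      let e1 := sk.homEquiv ((CohTop.push i).obj ((CohTop.pull i).obj P)) A
      have key' : Function.Bijective
          (fun g : (CohTop.push i).obj ((CohTop.pull i).obj P) ⟶ skyscraperSheaf x A => η ≫ g) := key
      have h : e0 ∘ (fun g => (TopCat.Presheaf.stalkFunctor AddCommGrpCat.{u} x).map η.hom ≫ g) =
          (fun g => η ≫ g) ∘ e1 := by
        funext g
        exact sk.homEquiv_naturality_left η g
      have := key'.comp e1.bijective
      replace := h ▸ this
      exact (Function.Bijective.of_comp_iff' e0.bijective _).1 this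
  exact TopCat.Presheaf.isIso_of_stalkFunctor_map_iso η

theorem comp_eta_eq_zero (G : CohTop.Ab (TopCat.of ((U : Set X)ᶜ : Set X))) (F : CohTop.Ab X)
    (φ : (CohTop.push (CohCx.inclCompl U)).obj G ⟶ F) : φ ≫ eta U F = 0 := by
  refine Sheaf.hom_ext (NatTrans.ext (funext fun V => AddCommGrpCat.ext fun s => ?_))
  show (eta U F).hom.app V (φ.hom.app V s) = 0
  obtain ⟨V⟩ := V
  rw [eta_eq_zero_iff, ← NatTrans.naturality_apply φ.hom]
  haveI := subsingleton_push U G (V ⊓ U) inf_le_right
  rw [Subsingleton.elim (((CohTop.push (CohCx.inclCompl U)).obj G).obj.map _ s) 0, map_zero]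

noncomputable def suppUnitIso (F : CohTop.Ab X) :
    (LocCohZ.sectSuppF U).obj F ≅
      (CohTop.push (CohCx.inclCompl U)).obj ((CohTop.pull (CohCx.inclCompl U)).obj ((LocCohZ.sectSuppF U).obj F)) :=
  @asIso _ _ _ _ ((TopCat.Sheaf.pullbackPushforwardAdjunction AddCommGrpCat.{u} (CohCx.inclCompl U)).unit.app
    ((LocCohZ.sectSuppF U).obj F)) (isIso_unit U ((LocCohZ.sectSuppF U).obj F) (subsingleton_supp U F))

noncomputable def suppHomEquiv (G : CohTop.Ab (TopCat.of ((U : Set X)ᶜ : Set X))) (F : CohTop.Ab X) :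
    ((CohTop.push (CohCx.inclCompl U)).obj G ⟶ F) ≃
      (G ⟶ (LocCohZ.sectSuppF U ⋙ CohTop.pull (CohCx.inclCompl U)).obj F) where
  toFun φ := (pushFF (isInducing_inclCompl U)).preimage
    ((kernel.lift _ φ (comp_eta_eq_zero U G F φ) : _ ⟶ (LocCohZ.sectSuppF U).obj F) ≫ (suppUnitIso U F).hom)
  invFun h := (CohTop.push (CohCx.inclCompl U)).map h ≫ (suppUnitIso U F).inv ≫ iota U F
  left_inv φ := by
    refine Eq.trans (congrArg (· ≫ (suppUnitIso U F).inv ≫ iota U F) (Functor.FullyFaithful.map_preimage _ _)) ?_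
    refine (Category.assoc _ _ _).trans ?_
    refine (congrArg (_ ≫ ·) ((suppUnitIso U F).hom_inv_id_assoc (iota U F))).trans ?_
    exact kernel.lift_ι _ _ _
  right_inv h := by
    dsimp only
    apply (pushFF (isInducing_inclCompl U)).map_injective
    rw [Functor.FullyFaithful.map_preimage]
    have : kernel.lift (eta U F) ((CohTop.push (CohCx.inclCompl U)).map h ≫ (suppUnitIso U F).inv ≫ iota U F)
        (comp_eta_eq_zero U G F _) = (CohTop.push (CohCx.inclCompl U)).map h ≫ (suppUnitIso U F).inv := by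
      apply (cancel_mono (kernel.ι (eta U F))).1
      exact (kernel.lift_ι _ _ _).trans (Category.assoc _ _ _).symm
    erw [this]
    exact (Category.assoc _ _ _).trans ((congrArg (_ ≫ ·) (suppUnitIso U F).inv_hom_id).trans (Category.comp_id _))

/-- `i_* ⊣ i⁻¹ Γ_Z` -/
noncomputable def closedAdj :
    CohTop.push (CohCx.inclCompl U) ⊣ LocCohZ.sectSuppF U ⋙ CohTop.pull (CohCx.inclCompl U) :=
  Adjunction.mkOfHomEquiv
    { homEquiv := suppHomEquiv U
      homEquiv_naturality_left_symm := fun f g => by
        show (CohTop.push _).map (f ≫ g) ≫ _ = _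
        rw [Functor.map_comp, Category.assoc]
        rfl
      homEquiv_naturality_right := fun {G F F'} φ k => by
        apply (suppHomEquiv U G F').symm.injective
        rw [Equiv.symm_apply_apply]
        show _ = (CohTop.push _).map (suppHomEquiv U G F φ ≫
          (CohTop.pull _).map ((LocCohZ.sectSuppF U).map k)) ≫ (suppUnitIso U F').inv ≫ iota U F'
        conv_lhs => rw [← (suppHomEquiv U G F).symm_apply_apply φ]
        show ((CohTop.push _).map _ ≫ (suppUnitIso U F).inv ≫ iota U F) ≫ k = _
        have hn : (LocCohZ.sectSuppF U).map k ≫ (suppUnitIso U F').hom = (suppUnitIso U F).hom ≫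
            (CohTop.push (CohCx.inclCompl U)).map ((CohTop.pull (CohCx.inclCompl U)).map ((LocCohZ.sectSuppF U).map k)) :=
          (TopCat.Sheaf.pullbackPushforwardAdjunction AddCommGrpCat.{u} (CohCx.inclCompl U)).unit.naturality
            ((LocCohZ.sectSuppF U).map k)
        rw [Functor.map_comp, Category.assoc, Category.assoc, Category.assoc, ← iota_natural U k]
        congr 1
        rw [← Category.assoc, ← Category.assoc]
        congr 1
        rw [Iso.inv_comp_eq, ← Category.assoc, ← hn, Category.assoc, Iso.hom_inv_id, Category.comp_id] }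

end Groth.Agent.LocZ
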