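import Groth.Agent.LocZ.Supp
import Groth.Agent.SpecSeq.ExtNat
import Groth.Agent.Lead.Flasque.Push
import Mathlib.Algebra.Homology.DerivedCategory.Ext.ExactSequences

/-!
Flasque sheaves and cohomology with supports; derived functors of sheaf valued functors.
-/

set_option autoImplicit false

universe v v' u u'

open CategoryTheory CategoryTheory.Limits Opposite TopologicalSpace Abelian

namespace Groth.Agent.LocZ

section

variable {A : Type u} [Category.{v} A] [Abelian A] [EnoughInjectives A]
  {B : Type u'} [Category.{v'} B] [Abelian B]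

/-- right derived functors of isomorphic functors -/
noncomputable def rightDerivedIso {F G : A ⥤ B} [F.Additive] [G.Additive] (e : F ≅ G) (n : ℕ) :
    F.rightDerived n ≅ G.rightDerived n where
  hom := NatTrans.rightDerived e.hom n
  inv := NatTrans.rightDerived e.inv n
  hom_inv_id := by rw [← NatTrans.rightDerived_comp, e.hom_inv_id, NatTrans.rightDerived_id]
  inv_hom_id := by rw [← NatTrans.rightDerived_comp, e.inv_hom_id, NatTrans.rightDerived_id]

end

variable {X : TopCat.{u}}

theorem subsingleton_HZ_of_isFlasque (F : CohTop.Ab X) [TopCat.Sheaf.IsFlasque F] {W V : Opens X}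
    (h : W ≤ V) (i : ℕ) : Subsingleton (LocCohZ.HZ F (i + 1) h) := by
  refine subsingleton_of_forall_eq 0 fun x => ?_
  have hV : Subsingleton (CohTop.HU F (i + 1) V) := Lead.Flasque.Top.subsingleton_HU F i V
  obtain ⟨y, hy⟩ := Ext.contravariant_sequence_exact₃ (LocCohZ.zqSeq_shortExact h) F x
    (@Subsingleton.elim _ hV _ _) (n₀ := i) (Nat.add_comm 1 i)
  rw [← hy]
  cases i with
  | succ j =>
    have hW : Subsingleton (CohTop.HU F (j + 1) W) := Lead.Flasque.Top.subsingleton_HU F j W
    rw [show y = 0 from @Subsingleton.elim _ hW _ _]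
    exact Ext.comp_zero ..
  | zero =>
    obtain ⟨g, rfl⟩ := Ext.homEquiv₀.symm.surjective y
    obtain ⟨r, hr⟩ := (AddCommGrpCat.epi_iff_surjective _).1
      (TopCat.Presheaf.IsFlasque.epi (F := F.obj) (homOfLE h).op)
      (CohFree.evalGen (Opens.grothendieckTopology X) W F g)
    have hg : CohCx.freeSheafMap (Opens.grothendieckTopology X) (homOfLE h) ≫
        CohFree.ofSect (Opens.grothendieckTopology X) V F r = g := by
      apply (CohFree.homEquivSect (Opens.grothendieckTopology X) W F).injective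
      rw [CohFree.homEquivSect_apply, CohFree.evalGen_freeSheafMap_comp, CohFree.evalGen_ofSect]
      exact hr
    rw [← hg]
    show (LocCohZ.zqSeq_shortExact h).extClass.comp (Ext.mk₀ ((LocCohZ.zqSeq h).f ≫
      CohFree.ofSect (Opens.grothendieckTopology X) V F r)) _ = 0
    rw [← Ext.mk₀_comp_mk₀]
    exact (LocCohZ.zqSeq_shortExact h).extClass_comp_assoc _

variable {A : Type u'} [Category.{v'} A] [Abelian A] [EnoughInjectives A]

/-- a derived functor of a sheaf valued functor vanishes if it does on sections -/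
theorem isZero_rightDerived_of_sections (T : A ⥤ CohTop.Ab X) [T.Additive] (F : A) (i : ℕ)
    [∀ V : Opens X, (T ⋙ secFun V).Additive]
    (h : ∀ V : Opens X, IsZero (((T ⋙ secFun V).rightDerived (i + 1)).obj F)) :
    IsZero ((T.rightDerived (i + 1)).obj F) := by
  let R := injectiveResolution F
  refine IsZero.of_iso ?_ (R.isoRightDerivedObj T (i + 1))
  refine (HomologicalComplex.exactAt_iff_isZero_homology _ _).1 ?_
  rw [HomologicalComplex.exactAt_iff' _ i (i + 1) (i + 2) (by simp) (by simp only [CochainComplex.next]; rfl)]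
  refine Lead.Flasque.Top.exact_of_sections _ fun V s hs => ?_
  have hV := (h V).of_iso (R.isoRightDerivedObj (T ⋙ secFun V) (i + 1)).symm
  have hex := (HomologicalComplex.exactAt_iff_isZero_homology _ _).2 hV
  rw [HomologicalComplex.exactAt_iff' _ i (i + 1) (i + 2) (by simp) (by simp only [CochainComplex.next]; rfl),
    ShortComplex.ab_exact_iff] at hex
  exact hex s hs

theorem isZero_HZsh_of_isFlasque (U : Opens X) (F : CohTop.Ab X) [TopCat.Sheaf.IsFlasque F] (i : ℕ) :
    IsZero ((LocCohZ.HZsh U (i + 1)).obj F) := by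
  refine isZero_rightDerived_of_sections (LocCohZ.sectSuppF U) F i fun V => ?_
  obtain ⟨e⟩ := nonempty_HZ_iso_rightDerived (U := U) (inf_le_left : V ⊓ U ≤ V) rfl F (i + 1)
  haveI : Subsingleton (AddCommGrpCat.of (LocCohZ.HZ F (i + 1) (inf_le_left : V ⊓ U ≤ V))) :=
    subsingleton_HZ_of_isFlasque F _ i
  exact (AddCommGrpCat.isZero_of_subsingleton (AddCommGrpCat.of (LocCohZ.HZ F (i + 1) _))).of_iso e.symm

theorem isFlasque_of_HZc_one (F : CohTop.Ab X) (h : ∀ U : Opens X, Subsingleton (LocCohZ.HZc F 1 U)) :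
    TopCat.Sheaf.IsFlasque F := by
  constructor
  intro V W i
  rw [AddCommGrpCat.epi_iff_surjective]
  intro s
  obtain ⟨x, hx⟩ := Ext.contravariant_sequence_exact₁ (LocCohZ.zqSeq_shortExact (le_top : W.unop ≤ ⊤)) F
    (Ext.mk₀ (CohFree.ofSect (Opens.grothendieckTopology X) W.unop F s)) (n₁ := 1) rfl
    (@Subsingleton.elim _ (h W.unop) _ _)
  obtain ⟨g, rfl⟩ := Ext.homEquiv₀.symm.surjective x
  have e : CohCx.freeSheafMap (Opens.grothendieckTopology X) (homOfLE (le_top : W.unop ≤ ⊤)) ≫ g =
      CohFree.ofSect (Opens.grothendieckTopology X) W.unop F s :=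
    Ext.homEquiv₀.symm.injective ((Ext.mk₀_comp_mk₀ _ g).symm.trans hx)
  refine ⟨F.obj.map (homOfLE (le_top : V.unop ≤ ⊤)).op
    (CohFree.evalGen (Opens.grothendieckTopology X) ⊤ F g), ?_⟩
  rw [← ConcreteCategory.comp_apply, ← Functor.map_comp,
    show (homOfLE (le_top : V.unop ≤ ⊤)).op ≫ i = (homOfLE (le_top : W.unop ≤ ⊤)).op from Subsingleton.elim _ _]
  have e' := congrArg (CohFree.evalGen (Opens.grothendieckTopology X) W.unop F) e
  rw [CohFree.evalGen_freeSheafMap_comp, CohFree.evalGen_ofSect] at e'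
  exact e'

end Groth.Agent.LocZ
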