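import Mathlib.Algebra.Homology.HomologySequenceLemmas
import Mathlib.Algebra.Homology.HomologicalComplexAbelian
import Mathlib.CategoryTheory.Abelian.RightDerived

/-!
The connecting morphism of a sequence of functors which is short exact on injective objects, when the
middle functor is the identity.
-/

set_option autoImplicit false

universe v u

open CategoryTheory CategoryTheory.Limits

namespace Groth.Agent.LocZ.FunSES

variable {A : Type u} [Category.{v} A] [Abelian A] [EnoughInjectives A] {T P : A ⥤ A} [T.Additive] [P.Additive]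
  (α : T ⟶ 𝟭 A) (β : 𝟭 A ⟶ P) (w : α ≫ β = 0)
  (hse : ∀ (J : A) [Injective J],
    (ShortComplex.mk (α.app J) (β.app J) (congrArg (fun t => NatTrans.app t J) w)).ShortExact)

/-- `T R ⟶ R ⟶ P R` -/
noncomputable abbrev seq (K : CochainComplex A ℕ) : ShortComplex (CochainComplex A ℕ) :=
  ShortComplex.mk ((NatTrans.mapHomologicalComplex α (ComplexShape.up ℕ)).app K)
    ((NatTrans.mapHomologicalComplex β (ComplexShape.up ℕ)).app K)
    (by ext n; exact congrArg (fun t => NatTrans.app t (K.X n)) w)

/-- functoriality -/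
noncomputable abbrev seqMap {K L : CochainComplex A ℕ} (φ : K ⟶ L) : seq α β w K ⟶ seq α β w L where
  τ₁ := (T.mapHomologicalComplex _).map φ
  τ₂ := ((𝟭 A).mapHomologicalComplex _).map φ
  τ₃ := (P.mapHomologicalComplex _).map φ
  comm₁₂ := ((NatTrans.mapHomologicalComplex α (ComplexShape.up ℕ)).naturality φ)
  comm₂₃ := ((NatTrans.mapHomologicalComplex β (ComplexShape.up ℕ)).naturality φ)

include hse in
theorem seq_shortExact {X : A} (R : InjectiveResolution X) : (seq α β w R.cocomplex).ShortExact :=
  HomologicalComplex.shortExact_of_degreewise_shortExact _ fun n => hse (R.cocomplex.X n)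

theorem exactAt_id {X : A} (R : InjectiveResolution X) (j : ℕ) :
    ((((𝟭 A).mapHomologicalComplex (ComplexShape.up ℕ)).obj R.cocomplex)).ExactAt (j + 1) := by
  rw [HomologicalComplex.exactAt_iff' _ j (j + 1) (j + 2) (by simp) (by simp only [CochainComplex.next]; rfl)]
  exact R.exact_succ j

theorem paste {C : Type*} [Category C] {a b c a' b' c' d d' : C} {x : a ⟶ a'} {hX : a ⟶ b} {hY : a' ⟶ b'}
    {p : b ⟶ b'} {δX : b ⟶ c} {δY : b' ⟶ c'} {t : c ⟶ c'} {iX : c ⟶ d} {iY : c' ⟶ d'} {y : d ⟶ d'}
    (h1 : x ≫ hY = hX ≫ p) (h2 : δX ≫ t = p ≫ δY) (h3 : iX ≫ y = t ≫ iY) :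
    x ≫ hY ≫ δY ≫ iY = (hX ≫ δX ≫ iX) ≫ y := by
  rw [reassoc_of% h1, Category.assoc, Category.assoc, h3, reassoc_of% h2]

/-- the connecting morphism -/
noncomputable def delta (n : ℕ) : P.rightDerived n ⟶ T.rightDerived (n + 1) where
  app X := ((injectiveResolution X).isoRightDerivedObj P n).hom ≫
    (seq_shortExact α β w hse (injectiveResolution X)).δ n (n + 1) rfl ≫
    ((injectiveResolution X).isoRightDerivedObj T (n + 1)).inv
  naturality {X Y} f :=
    paste
      (InjectiveResolution.isoRightDerivedObj_hom_naturality f _ _ _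
        (InjectiveResolution.desc_commutes_zero f (injectiveResolution Y) (injectiveResolution X)) P n)
      (HomologicalComplex.HomologySequence.δ_naturality
        (seqMap α β w (InjectiveResolution.desc f (injectiveResolution Y) (injectiveResolution X)))
        (seq_shortExact α β w hse _) (seq_shortExact α β w hse _) n (n + 1) rfl)
      (InjectiveResolution.isoRightDerivedObj_inv_naturality f _ _ _
        (InjectiveResolution.desc_commutes_zero f (injectiveResolution Y) (injectiveResolution X)) T (n + 1))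

theorem isIso_delta_app (n : ℕ) (X : A) : IsIso ((delta α β w hse (n + 1)).app X) := by
  have hS := seq_shortExact α β w hse (injectiveResolution X)
  have hz : ∀ j, IsZero ((seq α β w (injectiveResolution X).cocomplex).X₂.homology (j + 1)) := fun j =>
    (HomologicalComplex.exactAt_iff_isZero_homology _ _).1 (exactAt_id (injectiveResolution X) j)
  haveI : Mono (hS.δ (n + 1) (n + 2) rfl) :=
    (hS.homology_exact₃ (n + 1) (n + 2) rfl).mono_g ((hz n).eq_of_src _ _)
  haveI : Epi (hS.δ (n + 1) (n + 2) rfl) :=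
    (hS.homology_exact₁ (n + 1) (n + 2) rfl).epi_f ((hz (n + 1)).eq_of_tgt _ _)
  haveI : IsIso (hS.δ (n + 1) (n + 2) rfl) := isIso_of_mono_of_epi _
  show IsIso (_ ≫ hS.δ (n + 1) (n + 2) rfl ≫ _)
  infer_instance

noncomputable def deltaIso (n : ℕ) : P.rightDerived (n + 1) ≅ T.rightDerived (n + 1 + 1) :=
  haveI : ∀ X, IsIso ((delta α β w hse (n + 1)).app X) := isIso_delta_app α β w hse n
  haveI : IsIso (delta α β w hse (n + 1)) := NatIso.isIso_of_isIso_app _
  asIso (delta α β w hse (n + 1))

variable [PreservesFiniteLimits P]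

/-- `P ⟶ R¹T` -/
noncomputable def delta₀ : P ⟶ T.rightDerived 1 := P.toRightDerivedZero ≫ delta α β w hse 0

theorem delta₀_exact (X : A) :
    ∃ h : β.app X ≫ (delta₀ α β w hse).app X = 0,
      (ShortComplex.mk _ _ h).Exact ∧ Epi ((delta₀ α β w hse).app X) := by
  let R := injectiveResolution X
  have hS := seq_shortExact α β w hse R
  let S := seq α β w R.cocomplex
  let e₁ : X ≅ S.X₂.homology 0 := asIso (R.toRightDerivedZero' (𝟭 A)) ≪≫ CochainComplex.isoHomologyπ₀ _
  let e₂ : P.obj X ≅ S.X₃.homology 0 := asIso (R.toRightDerivedZero' P) ≪≫ CochainComplex.isoHomologyπ₀ _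
  let e₃ : (T.rightDerived 1).obj X ≅ S.X₁.homology 1 := R.isoRightDerivedObj T 1
  have c₁₂ : β.app X ≫ e₂.hom = e₁.hom ≫ HomologicalComplex.homologyMap S.g 0 := by
    have hc : β.app X ≫ R.toRightDerivedZero' P =
        R.toRightDerivedZero' (𝟭 A) ≫ HomologicalComplex.cyclesMap S.g 0 := by
      rw [← cancel_mono (HomologicalComplex.iCycles _ _), Category.assoc, Category.assoc,
        InjectiveResolution.toRightDerivedZero'_comp_iCycles, HomologicalComplex.cyclesMap_i,
        ← Category.assoc, InjectiveResolution.toRightDerivedZero'_comp_iCycles]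
      exact (β.naturality (R.ι.f 0)).symm
    show β.app X ≫ R.toRightDerivedZero' P ≫ HomologicalComplex.homologyπ _ 0 = _
    rw [← Category.assoc, hc, Category.assoc]
    exact (congrArg (R.toRightDerivedZero' (𝟭 A) ≫ ·)
      (HomologicalComplex.homologyπ_naturality S.g 0).symm).trans (Category.assoc _ _ _).symm
  have c₂₃ : (delta₀ α β w hse).app X ≫ e₃.hom = e₂.hom ≫ hS.δ 0 1 rfl := by
    have e : (delta₀ α β w hse).app X = P.toRightDerivedZero.app X ≫ (R.isoRightDerivedObj P 0).hom ≫
      hS.δ 0 1 rfl ≫ (R.isoRightDerivedObj T 1).inv := rfl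
    rw [e, R.toRightDerivedZero_eq P]
    refine Eq.trans ?_ (Category.assoc _ _ _).symm
    simp only [Category.assoc]
    simp only [e₂, e₃, Iso.trans_hom, asIso_hom, R, Iso.inv_hom_id, Category.comp_id]
    congr 2
    exact Iso.inv_hom_id_assoc _ _
  have h : β.app X ≫ (delta₀ α β w hse).app X = 0 := by
    rw [← cancel_mono e₃.hom, Category.assoc, c₂₃, ← Category.assoc, c₁₂, Category.assoc,
      hS.comp_δ 0 1 rfl, comp_zero, zero_comp]
  refine ⟨h, ?_, ?_⟩
  · exact ShortComplex.exact_of_iso (ShortComplex.isoMk (S₁ := ShortComplex.mk _ _ h)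
      (S₂ := ShortComplex.mk _ _ (hS.comp_δ 0 1 rfl)) e₁ e₂ e₃ c₁₂.symm c₂₃.symm).symm (hS.homology_exact₃ 0 1 rfl)
  · haveI : Epi (hS.δ 0 1 rfl) :=
      (hS.homology_exact₁ 0 1 rfl).epi_f
        (((HomologicalComplex.exactAt_iff_isZero_homology _ _).1 (exactAt_id R 0)).eq_of_tgt _ _)
    rw [show (delta₀ α β w hse).app X = e₂.hom ≫ hS.δ 0 1 rfl ≫ e₃.inv from by
      rw [← Category.assoc, ← c₂₃, Category.assoc, e₃.hom_inv_id, Category.comp_id]]
    infer_instance

include α w hse in
/-- `R¹T = coker β` -/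
theorem nonempty_rightDerived_one_iso : Nonempty (T.rightDerived 1 ≅ cokernel β) := by
  have h : β ≫ delta₀ α β w hse = 0 := by
    ext X
    exact (delta₀_exact α β w hse X).1
  let d := cokernel.desc β (delta₀ α β w hse) h
  have : ∀ X, IsIso (d.app X) := fun X => by
    obtain ⟨hX, hex, hepi⟩ := delta₀_exact α β w hse X
    let F := (evaluation A A).obj X
    have hc := isColimitCoforkMapOfIsColimit' F (cokernel.condition β) (cokernelIsCokernel β)
    haveI := hepi
    have e : d.app X = (hc.coconePointUniqueUpToIso hex.gIsCokernel).hom := by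
      refine Cofork.IsColimit.hom_ext hc ?_
      refine Eq.trans ?_ (IsColimit.comp_coconePointUniqueUpToIso_hom hc hex.gIsCokernel WalkingParallelPair.one).symm
      exact congrArg (fun t => NatTrans.app t X) (cokernel.π_desc β (delta₀ α β w hse) h)
    rw [e]
    infer_instance
  haveI : IsIso d := NatIso.isIso_of_isIso_app _
  exact ⟨(asIso d).symm⟩

end Groth.Agent.LocZ.FunSES
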