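import Groth.Agent.LocZ.ModSupp
import Groth.Agent.SpecSeq.LocalGlobal
import Groth.Agent.SpecSeq.ExtNat

/-!
`Ext` with supports as derived functors.
-/

set_option autoImplicit false

universe u

open CategoryTheory CategoryTheory.Limits Opposite

namespace Groth.Agent.LocZ.ModSupp

variable {C : Type u} [SmallCategory C] {J : GrothendieckTopology C} {O : Sheaf J CommRingCat.{u}}

/-- `Hom(O, Hom(Q, -)) ≅ Hom(Q, -)` -/
noncomputable def homUnitIso (Q : ModSite.Mod O) [ModSite.HasSheafHom Q] :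
    ModSite.sheafHom Q ⋙ preadditiveCoyoneda.obj (op (ModSite.unit O)) ≅ preadditiveCoyoneda.obj (op Q) :=
  haveI : ((ModSite.tensorBi O).flip.obj Q).Additive := (ModSite.sheafHomAdj Q).left_adjoint_additive
  NatIso.ofComponents
    (fun N => ((ModSite.sheafHomAdj Q).homAddEquiv (ModSite.unit O) N).symm.toAddCommGrpIso)
    (fun {N N'} φ => by
      ext k
      exact (ModSite.sheafHomAdj Q).homEquiv_naturality_right_symm _ _) ≪≫
  preadditiveCoyoneda.mapIso ((Groth.Agent.ModSite9.unitTensor O).app Q).symm.op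

variable (U : C) [ModSite.HasPushOver O U] (M : ModSite.Mod O) [ModSite.HasSheafHom M]

/-- `ℰxt_Z(M, -) = ℰxt(M_Z, -)` -/
theorem nonempty_extZSh_iso [HasInjectiveResolutions (ModSite.Mod O)]
    [ModSite.HasSheafHom ((ModSite.quotOn O U).obj M)] (q : ℕ) :
    Nonempty (ModSite.extZSh U M q ≅ ModSite.extSh ((ModSite.quotOn O U).obj M) q) := by
  haveI := Groth.Agent.ShMod.Grothendieck.isGrothendieckAbelian (ModSite.ringSh O)
  haveI : EnoughInjectives (ModSite.Mod O) := inferInstance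
  obtain ⟨-, ⟨e⟩⟩ := nonempty_sectOn_sheafHom (U := U) M
  exact ⟨Groth.Agent.LocZ.rightDerivedIso e q⟩

theorem nonempty_extZR_iso [HasExt.{u} (ModSite.Mod O)] [HasInjectiveResolutions (ModSite.Mod O)] (q : ℕ) :
    Nonempty (ExtSupp.ExtZR U M q ≅ Abelian.extFunctorObj ((ModSite.quotOn O U).obj M) q) := by
  haveI := Groth.Agent.ShMod.Grothendieck.isGrothendieckAbelian (ModSite.ringSh O)
  haveI : EnoughInjectives (ModSite.Mod O) := inferInstance
  haveI := Groth.Agent.ModTensor.hasSheafHom ((ModSite.quotOn O U).obj M)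
  obtain ⟨-, ⟨e⟩⟩ := nonempty_sectOn_sheafHom (U := U) M
  exact ⟨Groth.Agent.LocZ.rightDerivedIso ((Functor.associator _ _ _).symm ≪≫
      Functor.isoWhiskerRight e (preadditiveCoyoneda.obj (op (ModSite.unit O))) ≪≫
      homUnitIso ((ModSite.quotOn O U).obj M)) q ≪≫
    (Groth.Agent.SpecSeq.extIsoRightDerived ((ModSite.quotOn O U).obj M) q).symm⟩

theorem exists_localGlobal_extZSh [HasExt.{u} (ModSite.Mod O)] [HasInjectiveResolutions (ModSite.Mod O)]
    (N : ModSite.Mod O) :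
    ∃ (E : E₂CohomologicalSpectralSequence AddCommGrpCat.{u})
      (a : SpSeq.Abutment E (fun n : ℤ => if 0 ≤ n then AddCommGrpCat.of (ExtSupp.ExtZ U M N n.toNat)
        else AddCommGrpCat.of PUnit.{u + 1})),
      (∀ n, a.IsFinite n) ∧ SpSeq.IsBounded E ∧
      ∀ p q : ℤ, Nonempty ((E.page 2 le_rfl).X (p, q) ≅ (if 0 ≤ p ∧ 0 ≤ q then
        AddCommGrpCat.of (ModSite.HC O ((ModSite.extZSh U M q.toNat).obj N) p.toNat)
        else AddCommGrpCat.of PUnit.{u + 1})) := by
  have hz : IsZero (AddCommGrpCat.of PUnit.{u + 1}) := AddCommGrpCat.isZero_of_subsingleton _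
  haveI := Groth.Agent.ModTensor.hasSheafHom ((ModSite.quotOn O U).obj M)
  obtain ⟨E, a, h1, h2, h3⟩ :=
    Groth.Agent.SpecSeq.exists_localGlobal_constZ O ((ModSite.quotOn O U).obj M) N
  open scoped ZeroObject in
  have e : ∀ n : ℤ, Nonempty ((if 0 ≤ n then
      AddCommGrpCat.of (Abelian.Ext ((ModSite.quotOn O U).obj M) N n.toNat) else 0) ≅
      (if 0 ≤ n then AddCommGrpCat.of (ExtSupp.ExtZ U M N n.toNat) else AddCommGrpCat.of PUnit.{u + 1})) := fun n => by
    by_cases h : 0 ≤ n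
    · rw [if_pos h, if_pos h]
      exact ⟨Iso.refl _⟩
    · rw [if_neg h, if_neg h]
      exact ⟨(isZero_zero _).iso hz⟩
  refine ⟨E, Groth.Agent.SpecSeq.transportAbutment a (fun n => (e n).some),
    fun n => Groth.Agent.SpecSeq.isFinite_transportAbutment a _ n (h1 n), h2, fun p q => ?_⟩
  obtain ⟨e3⟩ := h3 p q
  by_cases h : 0 ≤ p ∧ 0 ≤ q
  · rw [if_pos h]
    obtain ⟨i⟩ := nonempty_extZSh_iso U M q.toNat
    exact ⟨e3 ≪≫ eqToIso (if_pos h) ≪≫ ((Abelian.extFunctor.{u} p.toNat).obj _).mapIso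
      ((SheafOfModules.toSheaf (ModSite.ringSh O)).mapIso (i.app N).symm)⟩
  · rw [if_neg h]
    exact ⟨e3 ≪≫ eqToIso (if_neg h) ≪≫ (isZero_zero _).iso hz⟩

end Groth.Agent.LocZ.ModSupp
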