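import Groth.Agent.LocZ.ModSeq
import Groth.Agent.LocZ.Derived
import Groth.Prelude.Def_Coh

/-!
Modules on ringed spaces: internal hom into injectives is flasque; flasque modules are acyclic for direct image.
-/

set_option autoImplicit false

universe u

open CategoryTheory CategoryTheory.Limits Opposite TopologicalSpace

namespace Groth.Agent.LocZ.ModFlasque

open Groth.Agent.SpecSeq

variable {X : TopCat.{u}}

theorem tf_zq {W V : Opens X} (h : W ≤ V) :
    Lead.Flasque.TF (cokernel (CohCx.freeSheafMap (Opens.grothendieckTopology X) (homOfLE h))) := by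
  let i : yoneda.obj W ⋙ AddCommGrpCat.free.{u} ⟶ yoneda.obj V ⋙ AddCommGrpCat.free.{u} :=
    Functor.whiskerRight (yoneda.map (homOfLE h)) AddCommGrpCat.free.{u}
  let a := presheafToSheaf (Opens.grothendieckTopology X) AddCommGrpCat.{u}
  haveI : a.Additive :=
    (sheafificationAdjunction (Opens.grothendieckTopology X) AddCommGrpCat.{u}).left_adjoint_additive
  haveI : PreservesColimit (parallelPair i 0) a := inferInstance
  have htf : Lead.Flasque.TF (a.obj (cokernel i)) := Lead.Flasque.tf_sheafify _ fun U n y hy => by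
    have hs : Function.Surjective ((cokernel.π i).app U) := (AddCommGrpCat.epi_iff_surjective _).1
      (inferInstanceAs (Epi (((evaluation (Opens X)ᵒᵖ AddCommGrpCat.{u}).obj U).map (cokernel.π i))))
    have hex := (ShortComplex.exact_of_g_is_cokernel (ShortComplex.mk i (cokernel.π i) (cokernel.condition _))
      (cokernelIsCokernel _)).map ((evaluation (Opens X)ᵒᵖ AddCommGrpCat.{u}).obj U)
    obtain ⟨x, rfl⟩ := hs y
    by_cases hW : U.unop ≤ W
    · refine Or.inr ?_
      obtain ⟨t, rfl⟩ : ∃ t, i.app U t = x := by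
        haveI : Subsingleton (U.unop ⟶ W) := inferInstance
        refine ⟨FreeAbelianGroup.lift (fun _ : (U.unop ⟶ V) =>
          (FreeAbelianGroup.of (homOfLE hW) : FreeAbelianGroup (U.unop ⟶ W))) x, ?_⟩
        have e : (i.app U).hom.comp (FreeAbelianGroup.lift (fun _ : (U.unop ⟶ V) =>
            (FreeAbelianGroup.of (homOfLE hW) : FreeAbelianGroup (U.unop ⟶ W)))) = AddMonoidHom.id _ := by
          refine FreeAbelianGroup.lift_ext (α := U.unop ⟶ V) _ _ fun f => ?_
          show FreeAbelianGroup.map (fun g : (U.unop ⟶ W) => g ≫ homOfLE h)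
            (FreeAbelianGroup.lift (fun _ => FreeAbelianGroup.of (homOfLE hW)) (FreeAbelianGroup.of f)) =
              FreeAbelianGroup.of f
          rw [FreeAbelianGroup.lift_apply_of, FreeAbelianGroup.map_of_apply]
          exact congrArg FreeAbelianGroup.of (Subsingleton.elim _ f)
        exact DFunLike.congr_fun e x
      exact ConcreteCategory.congr_hom (NatTrans.congr_app (cokernel.condition i) U) t
    · rw [← map_zsmul] at hy
      obtain ⟨t, ht⟩ := (ShortComplex.ab_exact_iff _).1 hex _ hy
      have hz : (i.app U).hom = 0 :=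
        FreeAbelianGroup.lift_ext (α := U.unop ⟶ W) _ _ fun f => absurd (leOfHom f) hW
      have hx : n • x = 0 := ht.symm.trans (DFunLike.congr_fun hz t)
      exact (Lead.Flasque.free_tf _ n x hx).imp_right fun h0 => by rw [h0, map_zero]
  let e : a.obj (cokernel i) ≅ cokernel (CohCx.freeSheafMap (Opens.grothendieckTopology X) (homOfLE h)) :=
    PreservesCokernel.iso a i
  exact Lead.Flasque.tf_sub e.inv htf

variable (O : Sheaf (Opens.grothendieckTopology X) CommRingCat.{u})

theorem isFlasque_sheafHom (F Q : ModSite.Mod O) [ModSite.HasSheafHom F] [Injective Q] :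
    TopCat.Sheaf.IsFlasque (ModSite.toAb ((ModSite.sheafHom F).obj Q)) := by
  constructor
  intro V W i
  rw [AddCommGrpCat.epi_iff_surjective]
  intro s
  have h : W.unop ≤ V.unop := leOfHom i.unop
  haveI : Mono (CohCx.freeSheafMap (Opens.grothendieckTopology X) (homOfLE h)) :=
    Lead.Flasque.Top.mono_freeSh_map (homOfLE h)
  obtain ⟨r, hr⟩ := Lead.Flasque.exists_extend O F Q
    (CohCx.freeSheafMap (Opens.grothendieckTopology X) (homOfLE h)) (tf_zq h)
    (CohFree.ofSect (Opens.grothendieckTopology X) W.unop _ s)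
  refine ⟨CohFree.evalGen (Opens.grothendieckTopology X) V.unop _ r, ?_⟩
  have e := congrArg (CohFree.evalGen (Opens.grothendieckTopology X) W.unop
    (ModSite.toAb ((ModSite.sheafHom F).obj Q))) hr
  rw [CohFree.evalGen_freeSheafMap_comp, CohFree.evalGen_ofSect] at e
  exact e

theorem subsingleton_ext_free [HasInjectiveResolutions (ModSite.Mod O)] (V : Opens X) (M : ModSite.Mod O) [TopCat.Sheaf.IsFlasque (ModSite.toAb M)] (n : ℕ) :
    IsZero (((SheafOfModules.toSheaf.{u} (ModSite.ringSh O) ⋙ evalFun (Opens.grothendieckTopology X) V).rightDerived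
      (n + 1)).obj M) := by
  haveI := Groth.Agent.ShMod.Grothendieck.isGrothendieckAbelian (ModSite.ringSh O)
  haveI : EnoughInjectives (ModSite.Mod O) := inferInstance
  haveI := Groth.Agent.ModTensor.hasSheafHom (ModSite.unit O)
  let P : (Opens X)ᵒᵖ ⥤ AddCommGrpCat.{u} := yoneda.obj V ⋙ AddCommGrpCat.free.{u}
  let T : preadditiveCoyoneda.obj (op (tensObj O P (ModSite.unit O))) ≅
      SheafOfModules.toSheaf.{u} (ModSite.ringSh O) ⋙
        preadditiveCoyoneda.obj (op ((presheafToSheaf (Opens.grothendieckTopology X) AddCommGrpCat.{u}).obj P)) :=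
    homAbIso O P (ModSite.unit O) ≪≫ Functor.isoWhiskerRight (ModSupp.homAbUnit O) _
  obtain ⟨d⟩ := ModSupp.ext_toSheaf O T (fun I _ k => by
    haveI : TopCat.Sheaf.IsFlasque ((homAb O (ModSite.unit O)).obj I) :=
      isFlasque_sheafHom O _ I
    haveI : TopCat.Sheaf.IsFlasque (ModSite.toAb I) :=
      Lead.Flasque.Top.isFlasque_of_iso ((ModSupp.homAbUnit O).app I)
    exact Lead.Flasque.Top.subsingleton_HU (ModSite.toAb I) k V) (n + 1) M
  haveI : Subsingleton (CohTop.HU (ModSite.toAb M) (n + 1) V) :=
    Lead.Flasque.Top.subsingleton_HU (ModSite.toAb M) n V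
  haveI : Subsingleton (AddCommGrpCat.of (Abelian.Ext (tensObj O P (ModSite.unit O)) M (n + 1))) :=
    @Equiv.subsingleton _ _ d.toEquiv ‹Subsingleton (CohTop.HU (ModSite.toAb M) (n + 1) V)›
  obtain ⟨w⟩ := nonempty_ext_iso_rightDerived (tensObj O P (ModSite.unit O)) M (n + 1)
  exact ((AddCommGrpCat.isZero_of_subsingleton _).of_iso
    (w ≪≫ (rightDerivedIso (T ≪≫ Functor.isoWhiskerLeft (SheafOfModules.toSheaf.{u} (ModSite.ringSh O))
      (coyonedaIsoEval (Opens.grothendieckTopology X) V)) (n + 1)).app M).symm)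

end Groth.Agent.LocZ.ModFlasque
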