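import Groth.Agent.LocZ.ModExt
import Groth.Agent.Lead.SiteCoh.TA

/-!
`M/M_U = (O/O_U) ⊗ M` with `O/O_U` the module on the presheaf quotient `ℤ/ℤ_U`.
-/

set_option autoImplicit false

universe u

open CategoryTheory CategoryTheory.Limits MonoidalCategory Opposite TensorProduct

namespace Groth.Agent.LocZ.ModSupp

open Groth.Agent.SpecSeq Groth.Agent.Lead.Flasque Groth.Agent.ModTensor

variable {C : Type u} [SmallCategory C] {J : GrothendieckTopology C} (O : Sheaf J CommRingCat.{u})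

/-- functoriality of `O[P] ⊗ M` -/
noncomputable abbrev tmap {P Q : Cᵒᵖ ⥤ AddCommGrpCat.{u}} (i : P ⟶ Q) (M : ModSite.Mod O) :
    tensObj O P M ⟶ tensObj O Q M :=
  ((ModSite.tensorBi O).flip.obj M).map ((ModTensor.sh O).map (wmap O i))

theorem homAbEquiv_tmap {P Q : Cᵒᵖ ⥤ AddCommGrpCat.{u}} (i : P ⟶ Q) (M : ModSite.Mod O) [ModSite.HasSheafHom M]
    {G : ModSite.Mod O} (k : tensObj O Q M ⟶ G) :
    homAbEquiv O P M G (tmap O i M ≫ k) =
      (presheafToSheaf J AddCommGrpCat.{u}).map i ≫ homAbEquiv O Q M G k := by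
  let a₁ := ModSite.sheafHomAdj M
  let a₂ := ModTensor.adj O
  let a₃ := sheafificationAdjunction J AddCommGrpCat.{u}
  show (a₃.homEquiv P ((homAb O M).obj G)).symm
      (wι O P ≫ (PresheafOfModules.toPresheaf _).map (a₂.homEquiv (W O P) _ (a₁.homEquiv _ G (tmap O i M ≫ k)))) =
    (presheafToSheaf J AddCommGrpCat.{u}).map i ≫ (a₃.homEquiv Q ((homAb O M).obj G)).symm
      (wι O Q ≫ (PresheafOfModules.toPresheaf _).map (a₂.homEquiv (W O Q) _ (a₁.homEquiv _ G k)))
  rw [a₁.homEquiv_naturality_left]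
  refine Eq.trans ?_ (a₃.homEquiv_naturality_left_symm _ _)
  congr 1
  rw [a₂.homEquiv_naturality_left]
  exact (congrArg (wι O P ≫ ·) ((PresheafOfModules.toPresheaf _).map_comp _ _)).trans
    ((Category.assoc _ _ _).symm.trans ((congrArg (· ≫ _) (wι_wmap O i)).trans (Category.assoc _ _ _)))

variable (U : C)

/-- `ℤ[Hom(-, U)] ⟶ ℤ` -/
noncomputable def freeMap : yoneda.obj U ⋙ AddCommGrpCat.free.{u} ⟶ (constZ : Cᵒᵖ ⥤ AddCommGrpCat.{u}) where
  app V := AddCommGrpCat.ofHom (FreeAbelianGroup.lift fun _ : (unop V ⟶ U) => (ULift.up 1 : ULift.{u} ℤ))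
  naturality V V' g := by
    refine AddCommGrpCat.hom_ext (FreeAbelianGroup.lift_ext (α := unop V ⟶ U) _ _ fun (f : unop V ⟶ U) => ?_)
    show FreeAbelianGroup.lift (fun _ : (unop V' ⟶ U) => (ULift.up 1 : ULift.{u} ℤ))
        (FreeAbelianGroup.map (fun f' : (unop V ⟶ U) => g.unop ≫ f') (FreeAbelianGroup.of f)) =
      FreeAbelianGroup.lift (fun _ : (unop V ⟶ U) => (ULift.up 1 : ULift.{u} ℤ)) (FreeAbelianGroup.of f)
    rw [FreeAbelianGroup.map_of_apply, FreeAbelianGroup.lift_apply_of, FreeAbelianGroup.lift_apply_of]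

/-- the presheaf `ℤ/ℤ_U` -/
noncomputable abbrev quotPre : Cᵒᵖ ⥤ AddCommGrpCat.{u} := cokernel (freeMap U)

/-- the projection -/
noncomputable abbrev quotPreπ : (constZ : Cᵒᵖ ⥤ AddCommGrpCat.{u}) ⟶ quotPre U := cokernel.π (freeMap U)

theorem exact_quotPre (V : Cᵒᵖ) (x : (constZ : Cᵒᵖ ⥤ AddCommGrpCat.{u}).obj V) :
    (quotPreπ U).app V x = 0 ↔ ∃ t, (freeMap U).app V t = x := by
  let S : ShortComplex (Cᵒᵖ ⥤ AddCommGrpCat.{u}) :=
    ShortComplex.mk (freeMap U) (quotPreπ U) (cokernel.condition _)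
  have hS : S.Exact := ShortComplex.exact_of_g_is_cokernel _ (cokernelIsCokernel _)
  have hS' := hS.map ((evaluation Cᵒᵖ AddCommGrpCat.{u}).obj V)
  constructor
  · intro h
    exact (ShortComplex.ab_exact_iff _).1 hS' x h
  · rintro ⟨t, rfl⟩
    exact (S.map ((evaluation Cᵒᵖ AddCommGrpCat.{u}).obj V)).ab_zero_apply t

theorem quotPreπ_surjective (V : Cᵒᵖ) : Function.Surjective ((quotPreπ U).app V) :=
  (AddCommGrpCat.epi_iff_surjective _).1
    (inferInstanceAs (Epi (((evaluation Cᵒᵖ AddCommGrpCat.{u}).obj V).map (quotPreπ U))))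

theorem subsingleton_quotPre {V : Cᵒᵖ} (f : unop V ⟶ U) : Subsingleton ((quotPre U).obj V) := by
  refine subsingleton_of_forall_eq 0 fun y => ?_
  obtain ⟨x, rfl⟩ := quotPreπ_surjective U V y
  refine (exact_quotPre U V x).2 ⟨(x.down : ℤ) • (FreeAbelianGroup.of f : FreeAbelianGroup (unop V ⟶ U)), ?_⟩
  refine (map_zsmul ((freeMap U).app V).hom _ _).trans ?_
  show (x.down : ℤ) • FreeAbelianGroup.lift (fun _ : (unop V ⟶ U) => (ULift.up 1 : ULift.{u} ℤ))
      (FreeAbelianGroup.of f) = x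
  rw [FreeAbelianGroup.lift_apply_of]
  exact ULift.ext _ _ (mul_one x.down)

theorem quotPre_tf (V : Cᵒᵖ) (n : ℤ) (y : (quotPre U).obj V) (h : n • y = 0) : n = 0 ∨ y = 0 := by
  by_cases hf : Nonempty (unop V ⟶ U)
  · exact Or.inr (@Subsingleton.elim _ (subsingleton_quotPre U hf.some) _ _)
  obtain ⟨x, rfl⟩ := quotPreπ_surjective U V y
  rw [← map_zsmul, exact_quotPre] at h
  obtain ⟨t, ht⟩ := h
  have hz : ((freeMap U).app V).hom = 0 :=
    FreeAbelianGroup.lift_ext (α := unop V ⟶ U) _ _ fun f => absurd ⟨f⟩ hf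
  have hx : n • x = 0 := ht.symm.trans (DFunLike.congr_fun hz t)
  have hx' : n * (ULift.down x : ℤ) = 0 := congrArg ULift.down hx
  exact (mul_eq_zero.1 hx').imp_right fun h0 => by
    rw [show x = 0 from ULift.ext x 0 h0, map_zero]

theorem tf_quotPre : Lead.Flasque.TF ((presheafToSheaf J AddCommGrpCat.{u}).obj (quotPre U)) :=
  Lead.Flasque.tf_sheafify _ (quotPre_tf U)

theorem flat_quotPre (V : Cᵒᵖ) : Module.Flat ℤ ((quotPre U).obj V) := by
  rw [Module.Flat.flat_iff_torsion_eq_bot_of_isBezout, Submodule.eq_bot_iff]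
  rintro y ⟨⟨n, hn⟩, hy⟩
  exact (quotPre_tf U V n y hy).resolve_left (nonZeroDivisors.ne_zero hn)

theorem isFlat_shW : ModSite.IsFlat ((ModTensor.sh O).obj (W O (quotPre U))) := by
  refine Groth.Agent.ModTensor.isFlat_sh (O := O) (W O (quotPre U)) fun V => ?_
  haveI := flat_quotPre U V
  exact (inferInstance : Module.Flat (O.obj.obj V) (O.obj.obj V ⊗[ℤ] (quotPre U).obj V))

theorem isNullOn_shW : ModSite.IsNullOn O U ((ModTensor.sh O).obj (W O (quotPre U))) := by
  have hz : IsZero ((Groth.Agent.ModSite9.resC O U).obj (W O (quotPre U))) := by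
    rw [IsZero.iff_id_eq_zero]
    apply (PresheafOfModules.toPresheaf _).map_injective
    refine NatTrans.ext (funext fun Y => AddCommGrpCat.hom_ext (AddMonoidHom.ext fun x => ?_))
    haveI := subsingleton_quotPre U (V := op Y.unop.left) Y.unop.hom
    haveI : Subsingleton (O.obj.obj (op Y.unop.left) ⊗[ℤ] (quotPre U).obj (op Y.unop.left)) := by
      refine subsingleton_of_forall_eq 0 fun z => ?_
      induction z using TensorProduct.induction_on with
      | zero => rfl
      | tmul r m => rw [Subsingleton.elim m 0, tmul_zero]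
      | add a b ha hb => rw [ha, hb, add_zero]
    exact Subsingleton.elim (α := O.obj.obj (op Y.unop.left) ⊗[ℤ] (quotPre U).obj (op Y.unop.left)) _ _
  haveI : (ModTensor.sh (O.over U)).Additive := (ModTensor.adj (O.over U)).left_adjoint_additive
  exact ((ModTensor.sh (O.over U)).map_isZero hz).of_iso ((Groth.Agent.ModSite9.shResIso O U).app _).symm

variable [ModSite.HasPushOver O U]

/-- `O[ℤ/ℤ_U] ⊗ M ≅ M/M_U` -/
theorem nonempty_tensObj_quotPre (M : ModSite.Mod O) :
    Nonempty (tensObj O (quotPre U) M ≅ (ModSite.quotOn O U).obj M) := by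
  haveI := Groth.Agent.ModTensor.hasSheafHom M
  haveI : (ModSite.restr O U).Additive := Groth.Agent.ModSite9.restr_additive O U
  obtain ⟨i⟩ := nonempty_tensObj_constZ O M
  let a := presheafToSheaf J AddCommGrpCat.{u}
  let A := sheafificationAdjunction J AddCommGrpCat.{u}
  haveI : Epi (a.map (quotPreπ U)) := by
    haveI : a.PreservesEpimorphisms := Functor.preservesEpimorphisms_of_adjunction A
    infer_instance
  have hepi : Epi (tmap O (quotPreπ U) M) := by
    refine ⟨fun g h e => (homAbEquiv O (quotPre U) M _).injective ((cancel_epi (a.map (quotPreπ U))).1 ?_)⟩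
    rw [← homAbEquiv_tmap, ← homAbEquiv_tmap, e]
  let π' : M ⟶ tensObj O (quotPre U) M := i.inv ≫ tmap O (quotPreπ U) M
  haveI : Epi π' := epi_comp _ _
  have hnull : (ModSite.restr O U).map π' = 0 :=
    restr_map_eq_zero_of_null π' (null_tensor_left M (isNullOn_shW O U))
  have hfac : ∀ {N : ModSite.Mod O} (φ : M ⟶ N), (ModSite.restr O U).map φ = 0 → ∃ ψ, π' ≫ ψ = φ := by
    intro N φ hφ
    obtain ⟨ψ₀, hψ₀⟩ := fac_quotOn φ hφ
    let Q := (ModSite.quotOn O U).obj M
    let k : constZ ⟶ ((homAb O M).obj Q).obj :=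
      A.homEquiv _ _ (homAbEquiv O constZ M Q (i.hom ≫ (ModSite.quotOnπ O U).app M))
    have hk : freeMap U ≫ k = 0 := by
      haveI := Groth.Agent.ModTensor.hasSheafHom ((ModSite.restr O U).obj M)
      haveI hs : Subsingleton (((homAb O M).obj Q).obj.obj (op U)) :=
        @Equiv.subsingleton _ _ (Groth.Agent.ModSite9.sectSheafHom O U M Q).toEquiv
          ⟨fun x y => (ExtSupp.isNullOn_quotOn O U M).eq_of_tgt x y⟩
      refine NatTrans.ext (funext fun V => AddCommGrpCat.hom_ext (FreeAbelianGroup.lift_ext (α := unop V ⟶ U) _ _ fun (f : unop V ⟶ U) => ?_))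
      have h1 := ConcreteCategory.congr_hom (k.naturality f.op) (ULift.up 1 : ULift.{u} ℤ)
      show k.app V (FreeAbelianGroup.lift (fun _ : (unop V ⟶ U) => (ULift.up 1 : ULift.{u} ℤ))
        (FreeAbelianGroup.of f)) = 0
      rw [FreeAbelianGroup.lift_apply_of]
      refine h1.trans ((congrArg (((homAb O M).obj Q).obj.map f.op) (@Subsingleton.elim _ hs _ 0)).trans ?_)
      exact map_zero _
    let d := cokernel.desc (freeMap U) k hk
    refine ⟨(homAbEquiv O (quotPre U) M Q).symm ((A.homEquiv _ _).symm d) ≫ ψ₀, ?_⟩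
    rw [← hψ₀, ← Category.assoc]
    refine congrArg (· ≫ ψ₀) ?_
    rw [Category.assoc, Iso.inv_comp_eq]
    apply (homAbEquiv O constZ M Q).injective
    rw [homAbEquiv_tmap, Equiv.apply_symm_apply, ← A.homEquiv_naturality_left_symm, cokernel.π_desc,
      Equiv.symm_apply_apply]
  obtain ⟨e, -⟩ := unique_null_quotient (U := U) π' hnull hfac ((ModSite.quotOnπ O U).app M)
    (restr_quotOnπ M) fac_quotOn
  exact ⟨e⟩

/-- `O/O_U` is flat -/
theorem isFlat_quotOn_unit : ModSite.IsFlat ((ModSite.quotOn O U).obj (ModSite.unit O)) := by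
  obtain ⟨e⟩ := nonempty_tensObj_quotPre O U (ModSite.unit O)
  let t : tensObj O (quotPre U) (ModSite.unit O) ≅ (ModTensor.sh O).obj (W O (quotPre U)) :=
    ((Groth.Agent.ModTensor.commIso O (ModSite.unit O)).app _).symm ≪≫ (Groth.Agent.ModSite9.unitTensor O).app _
  haveI := Groth.Agent.ModTensor.preservesMonos_obj (isFlat_shW O U)
  exact Groth.Agent.ModTensor.isFlat_of_obj ((Functor.preservesMonomorphisms.iso_iff
    ((ModSite.tensorBi O).mapIso (t.symm ≪≫ e))).1 inferInstance)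

/-- sections with supports preserve injectives -/
theorem injective_sectOn (Q : ModSite.Mod O) [Injective Q] : Injective ((ModSite.sectOn O U).obj Q) := by
  obtain ⟨-, ⟨b⟩⟩ := nonempty_tensor_quotOn_isos (U := U) (ModSite.unit O)
  let u : (ModSite.tensorBi O).flip.obj (ModSite.unit O) ≅ 𝟭 (ModSite.Mod O) :=
    (Groth.Agent.ModTensor.commIso O (ModSite.unit O)).symm ≪≫ Groth.Agent.ModSite9.unitTensor O
  haveI := (Groth.Agent.ModTensor.isFlat_iff _).1 (isFlat_quotOn_unit O U)
  haveI : (ModSite.quotOn O U).PreservesMonomorphisms :=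
    (Functor.preservesMonomorphisms.iso_iff
      (b.symm ≪≫ Functor.isoWhiskerRight u (ModSite.quotOn O U) ≪≫ (ModSite.quotOn O U).leftUnitor)).1 inferInstance
  exact (supAdj U).map_injective Q inferInstance

end Groth.Agent.LocZ.ModSupp
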