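import Groth.Agent.LocZ.ModQuot
import Groth.Agent.Lead.Flasque.DimShift
import Groth.Prelude.Def_ExtSupp

/-!
Spectral sequences with supports on a ringed site.
-/

set_option autoImplicit false

universe u

open CategoryTheory CategoryTheory.Limits MonoidalCategory Opposite Abelian
open scoped ZeroObject

namespace Groth.Agent.LocZ.ModSupp

open Groth.Agent.SpecSeq Groth.Agent.Lead.Flasque Groth.Agent.ModTensor

variable {C : Type u} [SmallCategory C] {J : GrothendieckTopology C}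

theorem unique_terminal (V : Cᵒᵖ) : Nonempty (Unique ((⊤_ (ToposFin.Sh J)).obj.obj V)) := by
  haveI : PreservesLimit (Functor.empty.{0} (ToposFin.Sh J)) (sheafToPresheaf J (Type u) ⋙
      (evaluation Cᵒᵖ (Type u)).obj V) := inferInstance
  exact ⟨Types.isTerminalEquivUnique _ (IsTerminal.isTerminalObj
    (sheafToPresheaf J (Type u) ⋙ (evaluation Cᵒᵖ (Type u)).obj V) _ terminalIsTerminal)⟩

/-- `ℤ ≅ ℤ[e]` on presheaves -/
theorem exists_constIso : ∃ i : (constZ : Cᵒᵖ ⥤ AddCommGrpCat.{u}) ≅ (⊤_ (ToposFin.Sh J)).obj ⋙ AddCommGrpCat.free.{u},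
    ∀ (V : Cᵒᵖ) (x : (⊤_ (ToposFin.Sh J)).obj.obj V), i.hom.app V (ULift.up 1 : ULift.{u} ℤ) = FreeAbelianGroup.of x := by
  let T := (⊤_ (ToposFin.Sh J)).obj
  let pt : ∀ V, T.obj V := fun V => (unique_terminal (J := J) V).some.default
  have hpt : ∀ V (x : T.obj V), x = pt V := fun V x => (unique_terminal (J := J) V).some.uniq x
  let to' : ∀ V : Cᵒᵖ, ULift.{u} ℤ →+ FreeAbelianGroup (T.obj V) := fun V =>
    AddMonoidHom.mk' (fun n => (n.down : ℤ) • (FreeAbelianGroup.of (pt V) : FreeAbelianGroup (T.obj V)))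
      fun a b => add_smul a.down b.down _
  let inv' : ∀ V : Cᵒᵖ, FreeAbelianGroup (T.obj V) →+ ULift.{u} ℤ := fun V =>
    FreeAbelianGroup.lift fun _ => (ULift.up 1 : ULift.{u} ℤ)
  let e : ∀ V : Cᵒᵖ, AddCommGrpCat.of (ULift.{u} ℤ) ≅ AddCommGrpCat.free.{u}.obj (T.obj V) := fun V =>
    { hom := AddCommGrpCat.ofHom (to' V)
      inv := AddCommGrpCat.ofHom (inv' V)
      hom_inv_id := by
        refine AddCommGrpCat.hom_ext (AddMonoidHom.ext fun n => ?_)
        show inv' V ((n.down : ℤ) • FreeAbelianGroup.of (pt V)) = n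
        rw [map_zsmul, FreeAbelianGroup.lift_apply_of]
        exact ULift.ext _ _ (mul_one n.down)
      inv_hom_id := by
        refine AddCommGrpCat.hom_ext (FreeAbelianGroup.lift_ext (α := T.obj V) _ _ fun x => ?_)
        show to' V (inv' V (FreeAbelianGroup.of x)) = FreeAbelianGroup.of x
        rw [FreeAbelianGroup.lift_apply_of, hpt V x]
        exact one_smul ℤ _ }
  refine ⟨NatIso.ofComponents e fun {V W} g => ?_, fun V x => ?_⟩
  · refine AddCommGrpCat.hom_ext (AddMonoidHom.ext fun n => ?_)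
    show (n.down : ℤ) • FreeAbelianGroup.of (pt W) =
      FreeAbelianGroup.map (T.map g) ((n.down : ℤ) • FreeAbelianGroup.of (pt V))
    rw [map_zsmul, FreeAbelianGroup.map_of_apply, hpt W (T.map g (pt V))]
  · show (1 : ℤ) • FreeAbelianGroup.of (pt V) = FreeAbelianGroup.of x
    rw [one_smul, hpt V x]

variable (U : C)

theorem nonempty_quotPre_iso_quotZ :
    Nonempty ((presheafToSheaf J AddCommGrpCat.{u}).obj (quotPre U) ≅ ToposFin.quotZ (ToposFin.eps J U)) := by
  obtain ⟨iT, hiT⟩ := exists_constIso (J := J)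
  let a := presheafToSheaf J AddCommGrpCat.{u}
  haveI : a.Additive := (sheafificationAdjunction J AddCommGrpCat.{u}).left_adjoint_additive
  haveI : PreservesColimit (parallelPair (freeMap U) 0) a := inferInstance
  haveI := Lead.SiteCoh.isIso_freePMap (J := J) (toSheafify J (yoneda.obj U)) (J.W_toSheafify _)
  have hsq : freeMap U ≫ iT.hom =
      Functor.whiskerRight (toSheafify J (yoneda.obj U) ≫ (terminal.from (ToposFin.eps J U)).hom)
        AddCommGrpCat.free.{u} := by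
    refine NatTrans.ext (funext fun V => AddCommGrpCat.hom_ext (FreeAbelianGroup.lift_ext (α := unop V ⟶ U) _ _
      fun (f : unop V ⟶ U) => ?_))
    show iT.hom.app V (FreeAbelianGroup.lift (fun _ : (unop V ⟶ U) => (ULift.up 1 : ULift.{u} ℤ))
        (FreeAbelianGroup.of f)) =
      FreeAbelianGroup.map ((toSheafify J (yoneda.obj U) ≫ (terminal.from (ToposFin.eps J U)).hom).app V)
        (FreeAbelianGroup.of f)
    rw [FreeAbelianGroup.lift_apply_of, FreeAbelianGroup.map_of_apply]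
    exact hiT V _
  refine ⟨PreservesCokernel.iso a (freeMap U) ≪≫ cokernel.mapIso (a.map (freeMap U))
    ((ToposFin.freeAb J).map (terminal.from (ToposFin.eps J U)))
    (asIso (Lead.SiteCoh.freePMap (J := J) (toSheafify J (yoneda.obj U)))) (a.mapIso iT) ?_⟩
  show a.map (freeMap U) ≫ a.map iT.hom = a.map (Functor.whiskerRight (toSheafify J (yoneda.obj U)) _) ≫
    a.map (Functor.whiskerRight (terminal.from (ToposFin.eps J U)).hom AddCommGrpCat.free.{u})
  rw [← a.map_comp, ← a.map_comp, hsq, Functor.whiskerRight_comp]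

variable (O : Sheaf J CommRingCat.{u}) [ModSite.HasPushOver O U]

/-- `Hom(O, -) ≅ id` -/
noncomputable def sheafHomUnit [ModSite.HasSheafHom (ModSite.unit O)] :
    ModSite.sheafHom (ModSite.unit O) ≅ 𝟭 (ModSite.Mod O) :=
  (ModSite.sheafHomAdj (ModSite.unit O)).rightAdjointUniq (Adjunction.id.ofNatIsoLeft
    ((Groth.Agent.ModTensor.commIso O (ModSite.unit O)).symm ≪≫ Groth.Agent.ModSite9.unitTensor O).symm)

theorem nonempty_sectOn_iso [ModSite.HasSheafHom ((ModSite.quotOn O U).obj (ModSite.unit O))] :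
    Nonempty (ModSite.sectOn O U ≅ ModSite.sheafHom ((ModSite.quotOn O U).obj (ModSite.unit O))) := by
  haveI := Groth.Agent.ModTensor.hasSheafHom (ModSite.unit O)
  obtain ⟨-, ⟨e⟩⟩ := nonempty_sectOn_sheafHom (U := U) (ModSite.unit O)
  exact ⟨(ModSite.sectOn O U).leftUnitor.symm ≪≫
    Functor.isoWhiskerRight (sheafHomUnit O).symm (ModSite.sectOn O U) ≪≫ e⟩

omit [ModSite.HasPushOver O U] in
/-- `Hom(O, Hom(O, -)) ≅ forget` -/
noncomputable def homAbUnit [ModSite.HasSheafHom (ModSite.unit O)] :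
    homAb O (ModSite.unit O) ≅ SheafOfModules.toSheaf.{u} (ModSite.ringSh O) :=
  Functor.isoWhiskerRight (sheafHomUnit O) (SheafOfModules.toSheaf.{u} (ModSite.ringSh O)) ≪≫
    (SheafOfModules.toSheaf.{u} (ModSite.ringSh O)).leftUnitor

theorem nonempty_quotUnitHom :
    Nonempty (preadditiveCoyoneda.obj (op ((ModSite.quotOn O U).obj (ModSite.unit O))) ≅
      SheafOfModules.toSheaf.{u} (ModSite.ringSh O) ⋙
        preadditiveCoyoneda.obj (op ((presheafToSheaf J AddCommGrpCat.{u}).obj (quotPre U)))) := by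
  haveI := Groth.Agent.ModTensor.hasSheafHom (ModSite.unit O)
  obtain ⟨q⟩ := nonempty_tensObj_quotPre O U (ModSite.unit O)
  exact ⟨preadditiveCoyoneda.mapIso q.op ≪≫ homAbIso O (quotPre U) (ModSite.unit O) ≪≫
    Functor.isoWhiskerRight (homAbUnit O) _⟩

omit [ModSite.HasPushOver O U] in
theorem subsingleton_ext_quotPre (I : ModSite.Mod O) (hI : Injective I) (k : ℕ) :
    Subsingleton (Ext ((presheafToSheaf J AddCommGrpCat.{u}).obj (quotPre U))
      ((SheafOfModules.toSheaf.{u} (ModSite.ringSh O)).obj I) (k + 1)) := by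
  haveI := Groth.Agent.ModTensor.hasSheafHom (ModSite.unit O)
  have h : Subsingleton (Ext ((presheafToSheaf J AddCommGrpCat.{u}).obj (quotPre U))
      ((homAb O (ModSite.unit O)).obj I) (k + 1)) :=
    Lead.Flasque.subsingleton_ext Lead.Flasque.TF (fun j _ h => Lead.Flasque.tf_sub j h)
      Lead.Flasque.exists_tf_cover _ (fun j _ hT g => Lead.Flasque.exists_extend O (ModSite.unit O) I j hT g) k
      (tf_quotPre U)
  exact @Equiv.subsingleton _ _ (((extFunctor.{u} (k + 1)).obj (op ((presheafToSheaf J AddCommGrpCat.{u}).obj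
    (quotPre U)))).mapIso ((homAbUnit O).app I)).addCommGroupIsoToAddEquiv.symm.toEquiv h

/-- transport of `Ext` from modules -/
theorem ext_toSheaf {X : ModSite.Mod O} {X' : Sheaf J AddCommGrpCat.{u}} [HasExt.{u} (ModSite.Mod O)]
    (e : preadditiveCoyoneda.obj (op X) ≅
      SheafOfModules.toSheaf.{u} (ModSite.ringSh O) ⋙ preadditiveCoyoneda.obj (op X'))
    (hac : ∀ (I : ModSite.Mod O), Injective I → ∀ k : ℕ,
      Subsingleton (Ext X' ((SheafOfModules.toSheaf.{u} (ModSite.ringSh O)).obj I) (k + 1)))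
    (n : ℕ) (M : ModSite.Mod O) :
    Nonempty (Ext X M n ≃+ Ext X' ((SheafOfModules.toSheaf.{u} (ModSite.ringSh O)).obj M) n) := by
  haveI := Groth.Agent.ShMod.Grothendieck.isGrothendieckAbelian (ModSite.ringSh O)
  haveI : EnoughInjectives (ModSite.Mod O) := inferInstance
  haveI : PreservesColimitsOfSize.{u, u} (SheafOfModules.toSheaf.{u} (ModSite.ringSh O)) :=
    Groth.Agent.ModTensor.preservesColimits_toSheaf
  haveI : PreservesFiniteColimits (SheafOfModules.toSheaf.{u} (ModSite.ringSh O)) := inferInstance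
  exact Lead.Flasque.DimShift.nonempty_extEquiv (SheafOfModules.toSheaf.{u} (ModSite.ringSh O))
    (fun Z => (e.app Z).addCommGroupIsoToAddEquiv)
    (fun {Z Z'} g φ => ConcreteCategory.congr_hom (e.hom.naturality φ) g) hac n M

/-- `Ext_O(O/O_U, M) ≅ H_Z(M)` -/
theorem nonempty_ext_quotOn_unit_iso [HasExt.{u} (ModSite.Mod O)] (M : ModSite.Mod O) (n : ℕ) :
    Nonempty (AddCommGrpCat.of (Ext ((ModSite.quotOn O U).obj (ModSite.unit O)) M n) ≅
      AddCommGrpCat.of (ModSite.HZ U M n)) := by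
  obtain ⟨z⟩ := nonempty_quotPre_iso_quotZ (J := J) U
  obtain ⟨e⟩ := nonempty_quotUnitHom U O
  obtain ⟨d⟩ := ext_toSheaf O e (subsingleton_ext_quotPre U O) n M
  exact ⟨d.toAddCommGrpIso ≪≫ ((extFunctor.{u} n).mapIso z.symm.op).app (ModSite.toAb M)⟩

theorem exists_seq_HC_HZsh [HasInjectiveResolutions (ModSite.Mod O)] (M : ModSite.Mod O) :
    ∃ (E : E₂CohomologicalSpectralSequence AddCommGrpCat.{u})
      (a : SpSeq.Abutment E (fun n : ℤ =>
        if 0 ≤ n then AddCommGrpCat.of (ModSite.HZ U M n.toNat) else AddCommGrpCat.of PUnit.{u + 1})),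
      (∀ n : ℤ, a.IsFinite n) ∧ SpSeq.IsBounded E ∧
      ∀ p q : ℤ, Nonempty ((E.page 2 le_rfl).X (p, q) ≅
        (if 0 ≤ p ∧ 0 ≤ q then AddCommGrpCat.of (ModSite.HC O ((ModSite.HZsh O U q.toNat).obj M) p.toNat)
          else AddCommGrpCat.of PUnit.{u + 1})) := by
  haveI := Groth.Agent.ShMod.Grothendieck.isGrothendieckAbelian (ModSite.ringSh O)
  haveI : EnoughInjectives (ModSite.Mod O) := inferInstance
  haveI := Groth.Agent.ModTensor.hasSheafHom ((ModSite.quotOn O U).obj (ModSite.unit O))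
  have hz : IsZero (AddCommGrpCat.of PUnit.{u + 1}) := AddCommGrpCat.isZero_of_subsingleton _
  obtain ⟨E, a, h1, h2, h3⟩ :=
    exists_localGlobal_constZ O ((ModSite.quotOn O U).obj (ModSite.unit O)) M
  have e : ∀ n : ℤ, Nonempty ((if 0 ≤ n then
      AddCommGrpCat.of (Ext ((ModSite.quotOn O U).obj (ModSite.unit O)) M n.toNat) else 0) ≅
      (if 0 ≤ n then AddCommGrpCat.of (ModSite.HZ U M n.toNat) else AddCommGrpCat.of PUnit.{u + 1})) := fun n => by
    by_cases h : 0 ≤ n
    · rw [if_pos h, if_pos h]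
      exact nonempty_ext_quotOn_unit_iso U O M n.toNat
    · rw [if_neg h, if_neg h]
      exact ⟨(isZero_zero _).iso hz⟩
  refine ⟨E, transportAbutment a (fun n => (e n).some),
    fun n => isFinite_transportAbutment a _ n (h1 n), h2, fun p q => ?_⟩
  obtain ⟨e3⟩ := h3 p q
  by_cases h : 0 ≤ p ∧ 0 ≤ q
  · rw [if_pos h]
    obtain ⟨s⟩ := nonempty_sectOn_iso U O
    exact ⟨e3 ≪≫ eqToIso (if_pos h) ≪≫ ((extFunctor.{u} p.toNat).obj _).mapIso
      ((SheafOfModules.toSheaf (ModSite.ringSh O)).mapIso ((Groth.Agent.LocZ.rightDerivedIso s q.toNat).app M).symm)⟩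
  · rw [if_neg h]
    exact ⟨e3 ≪≫ eqToIso (if_neg h) ≪≫ (isZero_zero _).iso hz⟩

theorem exists_seq_HZ_extSh [HasExt.{u} (ModSite.Mod O)] [HasInjectiveResolutions (ModSite.Mod O)]
    (M N : ModSite.Mod O) [ModSite.HasSheafHom M] :
    ∃ (E : E₂CohomologicalSpectralSequence AddCommGrpCat.{u})
      (a : SpSeq.Abutment E (fun n : ℤ =>
        if 0 ≤ n then AddCommGrpCat.of (ExtSupp.ExtZ U M N n.toNat) else AddCommGrpCat.of PUnit.{u + 1})),
      (∀ n, a.IsFinite n) ∧ SpSeq.IsBounded E ∧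
      ∀ p q : ℤ, Nonempty ((E.page 2 le_rfl).X (p, q) ≅
        (if 0 ≤ p ∧ 0 ≤ q then AddCommGrpCat.of (ModSite.HZ U ((ModSite.extSh M q.toNat).obj N) p.toNat)
         else AddCommGrpCat.of PUnit.{u + 1})) := by
  have hz : IsZero (AddCommGrpCat.of PUnit.{u + 1}) := AddCommGrpCat.isZero_of_subsingleton _
  obtain ⟨x⟩ := nonempty_tensObj_quotPre O U M
  obtain ⟨z⟩ := nonempty_quotPre_iso_quotZ (J := J) U
  obtain ⟨E, a, h1, h2, h3⟩ := exists_localGlobal O (quotPre U) M (tf_quotPre U) N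
  have e : ∀ n : ℤ, Nonempty ((if 0 ≤ n then
      AddCommGrpCat.of (Ext (tensObj O (quotPre U) M) N n.toNat) else 0) ≅
      (if 0 ≤ n then AddCommGrpCat.of (ExtSupp.ExtZ U M N n.toNat) else AddCommGrpCat.of PUnit.{u + 1})) := fun n => by
    by_cases h : 0 ≤ n
    · rw [if_pos h, if_pos h]
      exact ⟨((extFunctor.{u} n.toNat).mapIso x.symm.op).app N⟩
    · rw [if_neg h, if_neg h]
      exact ⟨(isZero_zero _).iso hz⟩
  refine ⟨E, transportAbutment a (fun n => (e n).some),
    fun n => isFinite_transportAbutment a _ n (h1 n), h2, fun p q => ?_⟩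
  obtain ⟨e3⟩ := h3 p q
  by_cases h : 0 ≤ p ∧ 0 ≤ q
  · rw [if_pos h]
    exact ⟨e3 ≪≫ eqToIso (if_pos h) ≪≫
      ((extFunctor.{u} p.toNat).mapIso z.symm.op).app (ModSite.toAb ((ModSite.extSh M q.toNat).obj N))⟩
  · rw [if_neg h]
    exact ⟨e3 ≪≫ eqToIso (if_neg h) ≪≫ (isZero_zero _).iso hz⟩

theorem exists_seq_ext_HZsh [HasExt.{u} (ModSite.Mod O)] [HasInjectiveResolutions (ModSite.Mod O)]
    (M N : ModSite.Mod O) :
    ∃ (E : E₂CohomologicalSpectralSequence AddCommGrpCat.{u})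
      (a : SpSeq.Abutment E (fun n : ℤ =>
        if 0 ≤ n then AddCommGrpCat.of (ExtSupp.ExtZ U M N n.toNat) else AddCommGrpCat.of PUnit.{u + 1})),
      (∀ n, a.IsFinite n) ∧ SpSeq.IsBounded E ∧
      ∀ p q : ℤ, Nonempty ((E.page 2 le_rfl).X (p, q) ≅
        (if 0 ≤ p ∧ 0 ≤ q then AddCommGrpCat.of (Ext M ((ModSite.HZsh O U q.toNat).obj N) p.toNat)
         else AddCommGrpCat.of PUnit.{u + 1})) := by
  haveI := Groth.Agent.ShMod.Grothendieck.isGrothendieckAbelian (ModSite.ringSh O)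
  haveI : EnoughInjectives (ModSite.Mod O) := inferInstance
  letI := HasDerivedCategory.standard (ModSite.Mod O)
  letI := HasDerivedCategory.standard AddCommGrpCat.{u}
  have hz : IsZero (AddCommGrpCat.of PUnit.{u + 1}) := AddCommGrpCat.isZero_of_subsingleton _
  let S := preadditiveCoyoneda.obj (op M)
  haveI : PreservesFiniteLimits S := inferInstance
  have hT : ∀ Q : ModSite.Mod O, Injective Q → RFPlus.Acyc S ((ModSite.sectOn O U).obj Q) := fun Q _ =>
    haveI := injective_sectOn O U Q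
    RFPlus.Acyc.of_injective S _
  let adj := supAdj (O := O) U
  haveI : (ModSite.quotOn O U).Additive := adj.left_adjoint_additive
  let i : ModSite.sectOn O U ⋙ S ≅ preadditiveCoyoneda.obj (op ((ModSite.quotOn O U).obj M)) :=
    NatIso.ofComponents (fun Z => (adj.homAddEquiv M Z).symm.toAddCommGrpIso)
      (fun {Z Z'} φ => by
        ext k
        exact adj.homEquiv_naturality_right_symm _ _)
  obtain ⟨E, a, h1, h2, h3⟩ := exists_grothendieck (ModSite.sectOn O U) S hT N
  have e : ∀ n : ℤ, Nonempty ((if 0 ≤ n then ((ModSite.sectOn O U ⋙ S).rightDerived n.toNat).obj N else 0) ≅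
      (if 0 ≤ n then AddCommGrpCat.of (ExtSupp.ExtZ U M N n.toNat) else AddCommGrpCat.of PUnit.{u + 1})) := fun n => by
    by_cases h : 0 ≤ n
    · rw [if_pos h, if_pos h]
      obtain ⟨d⟩ := nonempty_ext_iso_rightDerived ((ModSite.quotOn O U).obj M) N n.toNat
      exact ⟨(Groth.Agent.LocZ.rightDerivedIso i n.toNat).app N ≪≫ d.symm⟩
    · rw [if_neg h, if_neg h]
      exact ⟨(isZero_zero _).iso hz⟩
  refine ⟨E, transportAbutment a (fun n => (e n).some),
    fun n => isFinite_transportAbutment a _ n (h1 n), h2, fun p q => ?_⟩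
  obtain ⟨e3⟩ := h3 p q
  by_cases h : 0 ≤ p ∧ 0 ≤ q
  · rw [if_pos h]
    obtain ⟨d⟩ := nonempty_ext_iso_rightDerived M ((ModSite.HZsh O U q.toNat).obj N) p.toNat
    exact ⟨e3 ≪≫ eqToIso (if_pos h) ≪≫ d.symm⟩
  · rw [if_neg h]
    exact ⟨e3 ≪≫ eqToIso (if_neg h) ≪≫ (isZero_zero _).iso hz⟩

end Groth.Agent.LocZ.ModSupp
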