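import Groth.Agent.ModSite9.Projection
import Groth.Agent.ModTensor.Flat
import Groth.Prelude.Def_ExtSupp

/-!
Modules supported in a closed complement: adjunction and compatibility with tensor products.
-/

set_option autoImplicit false

universe u

open CategoryTheory CategoryTheory.Limits MonoidalCategory Opposite

namespace Groth.Agent.LocZ.ModSupp

variable {C : Type u} [SmallCategory C] {J : GrothendieckTopology C} {O : Sheaf J CommRingCat.{u}} {U : C}

/-- the counit `F_U ⟶ F` -/
noncomputable abbrev cou (U : C) (F : ModSite.Mod O) :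
    (ModSite.extZero O U).obj ((ModSite.restr O U).obj F) ⟶ F :=
  (ModSite.extZeroAdj O U).counit.app F

theorem restr_eq_zero_iff {F N : ModSite.Mod O} (φ : F ⟶ N) :
    (ModSite.restr O U).map φ = 0 ↔ cou U F ≫ φ = 0 := by
  haveI : (ModSite.restr O U).Additive := Groth.Agent.ModSite9.restr_additive O U
  haveI : (ModSite.extZero O U).Additive := (ModSite.extZeroAdj O U).left_adjoint_additive
  constructor
  · intro h
    have e := (ModSite.extZeroAdj O U).counit.naturality φ
    refine e.symm.trans ?_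
    rw [Functor.comp_map, h, (ModSite.extZero O U).map_zero, zero_comp]
  · intro h
    have e := (ModSite.extZeroAdj O U).right_triangle_components F
    rw [← Category.id_comp ((ModSite.restr O U).map φ), ← e, Category.assoc, ← Functor.map_comp, h,
      Functor.map_zero, comp_zero]

theorem restr_eq_zero_iff' [ModSite.HasPushOver O U] {F N : ModSite.Mod O} (φ : F ⟶ N) :
    (ModSite.restr O U).map φ = 0 ↔ φ ≫ (ModSite.restrPushOverAdj O U).unit.app N = 0 := by
  haveI : (ModSite.restr O U).Additive := Groth.Agent.ModSite9.restr_additive O U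
  have e := (ModSite.restrPushOverAdj O U).unit.naturality φ
  constructor
  · intro h
    refine e.trans ?_
    haveI : (ModSite.pushOver O U).Additive :=
      (ModSite.restrPushOverAdj O U).right_adjoint_additive
    rw [Functor.comp_map, h, (ModSite.pushOver O U).map_zero, comp_zero]
  · intro h
    apply ((ModSite.restrPushOverAdj O U).homEquiv _ _).injective
    rw [Adjunction.homEquiv_unit, Adjunction.homEquiv_unit]
    haveI : (ModSite.pushOver O U).Additive :=
      (ModSite.restrPushOverAdj O U).right_adjoint_additive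
    rw [(ModSite.pushOver O U).map_zero, comp_zero]
    exact e.symm.trans h

theorem restr_quotOnπ (F : ModSite.Mod O) [ModSite.HasPushOver O U] :
    (ModSite.restr O U).map ((ModSite.quotOnπ O U).app F) = 0 :=
  (ExtSupp.isNullOn_quotOn O U F).eq_of_tgt _ _

theorem fac_quotOn {F N : ModSite.Mod O} (φ : F ⟶ N) (h : (ModSite.restr O U).map φ = 0) :
    ∃ ψ, (ModSite.quotOnπ O U).app F ≫ ψ = φ :=
  ⟨cokernel.desc _ φ ((restr_eq_zero_iff φ).1 h), cokernel.π_desc _ _ _⟩

section adj

variable [ModSite.HasPushOver O U]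

instance mono_sectOnι (N : ModSite.Mod O) : Mono ((ModSite.sectOnι O U).app N) :=
  inferInstanceAs (Mono (kernel.ι ((ModSite.restrPushOverAdj O U).unit.app N)))

omit [ModSite.HasPushOver O U] in
instance epi_quotOnπ (F : ModSite.Mod O) : Epi ((ModSite.quotOnπ O U).app F) :=
  inferInstanceAs (Epi (cokernel.π (cou U F)))

theorem exists_toSect {F N : ModSite.Mod O} (ψ : (ModSite.quotOn O U).obj F ⟶ N) :
    ∃ χ : F ⟶ (ModSite.sectOn O U).obj N, χ ≫ (ModSite.sectOnι O U).app N = (ModSite.quotOnπ O U).app F ≫ ψ :=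
  ⟨kernel.lift _ ((ModSite.quotOnπ O U).app F ≫ ψ) ((restr_eq_zero_iff' _).1 (by
    haveI : (ModSite.restr O U).Additive := Groth.Agent.ModSite9.restr_additive O U
    rw [Functor.map_comp, restr_quotOnπ, zero_comp])), kernel.lift_ι _ _ _⟩

theorem exists_ofSect {F N : ModSite.Mod O} (χ : F ⟶ (ModSite.sectOn O U).obj N) :
    ∃ ψ : (ModSite.quotOn O U).obj F ⟶ N, (ModSite.quotOnπ O U).app F ≫ ψ = χ ≫ (ModSite.sectOnι O U).app N :=
  fac_quotOn _ ((restr_eq_zero_iff' _).2 (by
    rw [Category.assoc]
    exact (congrArg (χ ≫ ·) (kernel.condition _)).trans comp_zero))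

/-- the bijection of homs -/
noncomputable def supEquiv (F N : ModSite.Mod O) :
    ((ModSite.quotOn O U).obj F ⟶ N) ≃ (F ⟶ (ModSite.sectOn O U).obj N) where
  toFun ψ := (exists_toSect ψ).choose
  invFun χ := (exists_ofSect χ).choose
  left_inv ψ := by
    apply (cancel_epi ((ModSite.quotOnπ O U).app F)).1
    rw [(exists_ofSect (exists_toSect ψ).choose).choose_spec, (exists_toSect ψ).choose_spec]
  right_inv χ := by
    apply (cancel_mono ((ModSite.sectOnι O U).app N)).1
    rw [(exists_toSect (exists_ofSect χ).choose).choose_spec, (exists_ofSect χ).choose_spec]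

theorem supEquiv_spec {F N : ModSite.Mod O} (ψ : (ModSite.quotOn O U).obj F ⟶ N) :
    supEquiv F N ψ ≫ (ModSite.sectOnι O U).app N = (ModSite.quotOnπ O U).app F ≫ ψ :=
  (exists_toSect ψ).choose_spec

theorem supEquiv_symm_spec {F N : ModSite.Mod O} (χ : F ⟶ (ModSite.sectOn O U).obj N) :
    (ModSite.quotOnπ O U).app F ≫ (supEquiv F N).symm χ = χ ≫ (ModSite.sectOnι O U).app N :=
  (exists_ofSect χ).choose_spec

end adj

/-- `quotOn ⊣ sectOn` -/
noncomputable def supAdj (U : C) [ModSite.HasPushOver O U] : ModSite.quotOn O U ⊣ ModSite.sectOn O U :=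
  Adjunction.mkOfHomEquiv
    { homEquiv := supEquiv
      homEquiv_naturality_left_symm := fun {F' F N} f χ => by
        apply (cancel_epi ((ModSite.quotOnπ O U).app F')).1
        rw [supEquiv_symm_spec, Category.assoc, ← supEquiv_symm_spec]
        have e := (ModSite.quotOnπ O U).naturality f
        rw [Functor.id_map] at e
        exact (reassoc_of% e) _
      homEquiv_naturality_right := fun {F N N'} ψ g => by
        apply (cancel_mono ((ModSite.sectOnι O U).app N')).1
        rw [supEquiv_spec]
        have e := (ModSite.sectOnι O U).naturality g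
        rw [Functor.id_map] at e
        exact ((Category.assoc _ _ _).symm.trans (congrArg (· ≫ g) (supEquiv_spec ψ).symm)).trans
          ((Category.assoc _ _ _).trans ((congrArg (supEquiv F N ψ ≫ ·) e.symm).trans (Category.assoc _ _ _).symm)) }

theorem eq_zero_of_iso_extZero {H : ModSite.Mod (O.over U)} {Z N : ModSite.Mod O}
    (θ : (ModSite.extZero O U).obj H ≅ Z) (ψ : Z ⟶ N) (h : (ModSite.restr O U).map ψ = 0) : ψ = 0 := by
  haveI : (ModSite.restr O U).Additive := Groth.Agent.ModSite9.restr_additive O U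
  have h' : θ.hom ≫ ψ = 0 := by
    apply ((ModSite.extZeroAdj O U).homEquiv _ _).injective
    rw [Adjunction.homEquiv_unit, Adjunction.homEquiv_unit, Functor.map_comp, h, comp_zero, comp_zero,
      Functor.map_zero, comp_zero]
  exact (cancel_epi θ.hom).1 (h'.trans comp_zero.symm)

section tensor

variable [ModSite.HasPushOver O U]

theorem additive_tensor (G : ModSite.Mod O) :
    ((ModSite.tensorBi O).obj G).Additive ∧ ((ModSite.tensorBi O).flip.obj G).Additive := by
  haveI := Groth.Agent.ModTensor.preservesFiniteColimits_obj O G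
  haveI := Groth.Agent.ModTensor.preservesFiniteColimits_flip O G
  haveI : HasZeroObject (ModSite.Mod O) := Abelian.hasZeroObject
  haveI : PreservesColimit (Functor.empty.{0} (ModSite.Mod O)) ((ModSite.tensorBi O).obj G) := inferInstance
  haveI : PreservesColimit (Functor.empty.{0} (ModSite.Mod O)) ((ModSite.tensorBi O).flip.obj G) := inferInstance
  haveI : ((ModSite.tensorBi O).obj G).PreservesZeroMorphisms :=
    Functor.preservesZeroMorphisms_of_preserves_initial_object
  haveI : ((ModSite.tensorBi O).flip.obj G).PreservesZeroMorphisms :=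
    Functor.preservesZeroMorphisms_of_preserves_initial_object
  haveI := preservesBinaryBiproducts_of_preservesBinaryCoproducts ((ModSite.tensorBi O).obj G)
  haveI := preservesBinaryBiproducts_of_preservesBinaryCoproducts ((ModSite.tensorBi O).flip.obj G)
  exact ⟨Functor.additive_of_preservesBinaryBiproducts _, Functor.additive_of_preservesBinaryBiproducts _⟩

theorem null_tensor_right (G : ModSite.Mod O) {A : ModSite.Mod O} (h : ModSite.IsNullOn O U A) :
    ModSite.IsNullOn O U (((ModSite.tensorBi O).obj G).obj A) := by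
  haveI := (additive_tensor (O := O.over U) ((ModSite.restr O U).obj G)).1
  exact (((ModSite.tensorBi (O.over U)).obj ((ModSite.restr O U).obj G)).map_isZero h).of_iso
    ((Groth.Agent.ModSite9.restrTensorLeft O U G).app A)

theorem null_tensor_left (G : ModSite.Mod O) {A : ModSite.Mod O} (h : ModSite.IsNullOn O U A) :
    ModSite.IsNullOn O U (((ModSite.tensorBi O).flip.obj G).obj A) :=
  (null_tensor_right G h).of_iso ((ModSite.restr O U).mapIso
    ((Groth.Agent.ModTensor.commIso O G).app A).symm)

end tensor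

/-- two cokernel presentations of the same functor: the universal null quotient -/
theorem unique_null_quotient {F Q : ModSite.Mod O} (π : F ⟶ Q) [Epi π] (hQ : (ModSite.restr O U).map π = 0)
    (hfac : ∀ {N : ModSite.Mod O} (φ : F ⟶ N), (ModSite.restr O U).map φ = 0 → ∃ ψ, π ≫ ψ = φ)
    {Q' : ModSite.Mod O} (π' : F ⟶ Q') [Epi π'] (hQ' : (ModSite.restr O U).map π' = 0)
    (hfac' : ∀ {N : ModSite.Mod O} (φ : F ⟶ N), (ModSite.restr O U).map φ = 0 → ∃ ψ, π' ≫ ψ = φ) :
    ∃ e : Q ≅ Q', π ≫ e.hom = π' := by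
  obtain ⟨a, ha⟩ := hfac π' hQ'
  obtain ⟨b, hb⟩ := hfac' π hQ
  exact ⟨⟨a, b, (cancel_epi π).1 (by rw [reassoc_of% ha, hb, Category.comp_id]),
    (cancel_epi π').1 (by rw [reassoc_of% hb, ha, Category.comp_id])⟩, ha⟩

theorem fac_tensor (L : ModSite.Mod O ⥤ ModSite.Mod O) [L.Additive] [PreservesFiniteColimits L] (F : ModSite.Mod O)
    {H : ModSite.Mod (O.over U)} (θ : (ModSite.extZero O U).obj H ≅ L.obj ((ModSite.extZero O U).obj ((ModSite.restr O U).obj F)))
    {N : ModSite.Mod O} (φ : L.obj F ⟶ N) (h : (ModSite.restr O U).map φ = 0) :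
    ∃ ψ, L.map ((ModSite.quotOnπ O U).app F) ≫ ψ = φ := by
  haveI : (ModSite.restr O U).Additive := Groth.Agent.ModSite9.restr_additive O U
  have hz : L.map (cou U F) ≫ φ = 0 :=
    eq_zero_of_iso_extZero θ _ (by rw [Functor.map_comp, h, comp_zero])
  obtain ⟨l, hl⟩ := CokernelCofork.IsColimit.desc' (isColimitCoforkMapOfIsColimit' L
    (cokernel.condition (cou U F)) (cokernelIsCokernel (cou U F))) φ hz
  exact ⟨l, hl⟩

/-- universal null quotient of a functor -/
structure IsNullQuot (U : C) (L A : ModSite.Mod O ⥤ ModSite.Mod O) (π : L ⟶ A) : Prop where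
  epi : ∀ G, Epi (π.app G)
  null : ∀ G, (ModSite.restr O U).map (π.app G) = 0
  fac : ∀ (G : ModSite.Mod O) {N : ModSite.Mod O} (φ : L.obj G ⟶ N), (ModSite.restr O U).map φ = 0 →
    ∃ ψ, π.app G ≫ ψ = φ

theorem nullQuotIso {L A B : ModSite.Mod O ⥤ ModSite.Mod O} {π : L ⟶ A} {π' : L ⟶ B} (h : IsNullQuot U L A π)
    (h' : IsNullQuot U L B π') : Nonempty (A ≅ B) := by
  have e : ∀ G, ∃ e : A.obj G ≅ B.obj G, π.app G ≫ e.hom = π'.app G := fun G =>
    haveI := h.epi G
    haveI := h'.epi G
    unique_null_quotient (π.app G) (h.null G) (h.fac G) (π'.app G) (h'.null G) (h'.fac G)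
  refine ⟨NatIso.ofComponents (fun G => (e G).choose) fun {G G'} f => ?_⟩
  haveI := h.epi G
  apply (cancel_epi (π.app G)).1
  rw [← π.naturality_assoc, (e G').choose_spec, reassoc_of% (e G).choose_spec, π'.naturality]

variable [ModSite.HasPushOver O U]

theorem restr_map_eq_zero_of_null {F Q : ModSite.Mod O} (π : F ⟶ Q) (h : ModSite.IsNullOn O U Q) :
    (ModSite.restr O U).map π = 0 :=
  h.eq_of_tgt _ _

/-- `(G/G_U) ⊗ M = (G ⊗ M)/(G ⊗ M)_U = G ⊗ (M/M_U)` -/
theorem nonempty_tensor_quotOn_isos (M : ModSite.Mod O) :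
    Nonempty ((ModSite.tensorBi O).flip.obj M ⋙ ModSite.quotOn O U ≅
        ModSite.quotOn O U ⋙ (ModSite.tensorBi O).flip.obj M) ∧
      Nonempty ((ModSite.tensorBi O).flip.obj M ⋙ ModSite.quotOn O U ≅
        (ModSite.tensorBi O).flip.obj ((ModSite.quotOn O U).obj M)) := by
  let L := (ModSite.tensorBi O).flip.obj M
  haveI : L.Additive := (additive_tensor (O := O) M).2
  haveI : PreservesFiniteColimits L := Groth.Agent.ModTensor.preservesFiniteColimits_flip O M
  have h₀ : IsNullQuot U L (L ⋙ ModSite.quotOn O U) (Functor.whiskerLeft L (ModSite.quotOnπ O U)) :=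
    ⟨fun G => epi_quotOnπ (L.obj G), fun G => restr_quotOnπ (L.obj G), fun G => fac_quotOn⟩
  constructor
  · have h₁ : IsNullQuot U L (ModSite.quotOn O U ⋙ L) (Functor.whiskerRight (ModSite.quotOnπ O U) L) :=
      ⟨fun G => inferInstanceAs (Epi (L.map ((ModSite.quotOnπ O U).app G))),
        fun G => restr_map_eq_zero_of_null _ (null_tensor_left M (ExtSupp.isNullOn_quotOn O U G)),
        fun G => fac_tensor L G ((Groth.Agent.ModSite9.projFlip O U M).app ((ModSite.restr O U).obj G))⟩
    exact nullQuotIso h₀ h₁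
  · have h₁ : IsNullQuot U L ((ModSite.tensorBi O).flip.obj ((ModSite.quotOn O U).obj M))
        ((ModSite.tensorBi O).flip.map ((ModSite.quotOnπ O U).app M)) := by
      have key : ∀ G : ModSite.Mod O, Epi (((ModSite.tensorBi O).obj G).map ((ModSite.quotOnπ O U).app M)) := fun G =>
        haveI : PreservesFiniteColimits ((ModSite.tensorBi O).obj G) :=
          Groth.Agent.ModTensor.preservesFiniteColimits_obj O G
        inferInstance
      refine ⟨key, fun G => restr_map_eq_zero_of_null _ (null_tensor_right G (ExtSupp.isNullOn_quotOn O U M)),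
        fun G => ?_⟩
      haveI : ((ModSite.tensorBi O).obj G).Additive := (additive_tensor (O := O) G).1
      haveI : PreservesFiniteColimits ((ModSite.tensorBi O).obj G) :=
        Groth.Agent.ModTensor.preservesFiniteColimits_obj O G
      intro N φ hφ
      exact fac_tensor ((ModSite.tensorBi O).obj G) M
        ((Groth.Agent.ModSite9.projFlip O U G).app ((ModSite.restr O U).obj M) ≪≫
          ((Groth.Agent.ModTensor.commIso O G).app _).symm) φ hφ
    exact nullQuotIso h₀ h₁

/-- sections with supports of internal hom -/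
theorem nonempty_sectOn_sheafHom (M : ModSite.Mod O) [ModSite.HasSheafHom M]
    [ModSite.HasSheafHom ((ModSite.quotOn O U).obj M)] :
    Nonempty (ModSite.sheafHom M ⋙ ModSite.sectOn O U ≅ ModSite.sectOn O U ⋙ ModSite.sheafHom M) ∧
      Nonempty (ModSite.sheafHom M ⋙ ModSite.sectOn O U ≅ ModSite.sheafHom ((ModSite.quotOn O U).obj M)) := by
  obtain ⟨⟨a⟩, ⟨b⟩⟩ := nonempty_tensor_quotOn_isos (U := U) M
  exact ⟨⟨((supAdj U).comp (ModSite.sheafHomAdj M)).rightAdjointUniq
      (((ModSite.sheafHomAdj M).comp (supAdj U)).ofNatIsoLeft a)⟩,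
    ⟨((supAdj U).comp (ModSite.sheafHomAdj M)).rightAdjointUniq
      ((ModSite.sheafHomAdj ((ModSite.quotOn O U).obj M)).ofNatIsoLeft (b.symm ≪≫ a))⟩⟩

end Groth.Agent.LocZ.ModSupp
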