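import Groth.Agent.LocZ.Derived
import Groth.Agent.LocZ.FunSES
import Groth.Agent.ModSite9.DerivedComm
import Groth.Agent.Lead.Flasque.Restr

/-!
Local cohomology sheaves and higher direct images of the open complement.
-/

set_option autoImplicit false

universe u

open CategoryTheory CategoryTheory.Limits Opposite TopologicalSpace

namespace Groth.Agent.LocZ

variable {X : TopCat.{u}} (U : Opens X)

/-- pullback to an open subspace is restriction -/
noncomputable def pullRestrIso : CohTop.pull (CohCx.incl U) ≅ CohTop.restrFunctor U := pullIso U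

theorem restr_exact :
    (CohTop.restrFunctor U).PreservesHomology ∧ (CohTop.restrFunctor U).PreservesInjectiveObjects := by
  obtain ⟨h1, h2, h3⟩ := Lead.Flasque.Top.restr_props U
  haveI := h1
  haveI := h2
  exact ⟨inferInstance, ⟨fun {I} hI => h3 I hI⟩⟩

instance additive_push : (CohTop.push (CohCx.incl U)).Additive where

instance additive_pull : (CohTop.pull (CohCx.incl U)).Additive :=
  haveI : (TopCat.Sheaf.pushforward AddCommGrpCat.{u} (CohCx.incl U)).Additive := additive_push U
  (TopCat.Sheaf.pullbackPushforwardAdjunction AddCommGrpCat.{u} (CohCx.incl U)).left_adjoint_additive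

theorem pull_exact :
    (CohTop.pull (CohCx.incl U)).PreservesHomology ∧ (CohTop.pull (CohCx.incl U)).PreservesInjectiveObjects ∧
      PreservesFiniteLimits (CohTop.pull (CohCx.incl U)) := by
  obtain ⟨h1, h2, h3⟩ := Lead.Flasque.Top.restr_props U
  haveI := h1
  haveI := h2
  haveI : PreservesFiniteLimits (CohTop.pull (CohCx.incl U)) := preservesFiniteLimits_of_natIso (pullRestrIso U).symm
  haveI : PreservesFiniteColimits (CohTop.pull (CohCx.incl U)) :=
    preservesFiniteColimits_of_natIso (pullRestrIso U).symm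
  exact ⟨inferInstance, ⟨fun {I} hI => Injective.of_iso ((pullRestrIso U).app I).symm (h3 I hI)⟩, inferInstance⟩

/-- the unit is surjective on sections of a flasque sheaf -/
theorem eta_surjective (F : CohTop.Ab X) [TopCat.Sheaf.IsFlasque F] (V : Opens X) :
    Function.Surjective ((eta U F).hom.app (op V)) := by
  intro t
  let k := (TopCat.Sheaf.pushforward AddCommGrpCat.{u} (CohCx.incl U)).mapIso ((pullIso U).app F)
  let m := ((sheafToPresheaf _ _).mapIso k).app (op V)
  obtain ⟨s, hs⟩ := (AddCommGrpCat.epi_iff_surjective _).1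
    (TopCat.Presheaf.IsFlasque.epi (F := F.obj)
      ((isOpenEmbedding_incl U).isOpenMap.adjunction.counit.app V).op) (m.hom t)
  refine ⟨s, (AddCommGrpCat.mono_iff_injective m.hom).1 inferInstance ?_⟩
  refine Eq.trans ?_ hs
  have e := Adjunction.unit_leftAdjointUniq_hom_app
    (TopCat.Sheaf.pullbackPushforwardAdjunction AddCommGrpCat.{u} (CohCx.incl U)) (naiveAdj U) F
  exact ConcreteCategory.congr_hom (NatTrans.congr_app (congrArg InducedCategory.Hom.hom e) (op V)) s

/-- inclusion of supported sections, as a natural transformation -/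
noncomputable def iotaNat : LocCohZ.sectSuppF U ⟶ 𝟭 (CohTop.Ab X) where
  app F := iota U F
  naturality _ _ φ := iota_natural U φ

/-- the unit, as a natural transformation -/
noncomputable def unitNat : 𝟭 (CohTop.Ab X) ⟶ CohTop.pull (CohCx.incl U) ⋙ CohTop.push (CohCx.incl U) :=
  (TopCat.Sheaf.pullbackPushforwardAdjunction AddCommGrpCat.{u} (CohCx.incl U)).unit

theorem iota_unit : iotaNat U ≫ unitNat U = 0 := by
  apply NatTrans.ext
  funext F
  exact kernel.condition (eta U F)

theorem shortExact_injective (J : CohTop.Ab X) [Injective J] :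
    (ShortComplex.mk ((iotaNat U).app J) ((unitNat U).app J)
      (congrArg (fun t => NatTrans.app t J) (iota_unit U))).ShortExact := by
  haveI := Lead.Flasque.Top.isFlasque_of_injective J
  refine ShortComplex.ShortExact.mk' (ShortComplex.exact_of_f_is_kernel _ (kernelIsKernel (eta U J)))
    (inferInstanceAs (Mono (kernel.ι (eta U J)))) ?_
  refine (TopCat.Sheaf.isLocallySurjective_iff_epi (X := X) _).1 ((TopCat.Presheaf.isLocallySurjective_iff _).2 ?_)
  intro V t x hx
  obtain ⟨s, hs⟩ := eta_surjective U J V t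
  exact ⟨V, le_rfl, ⟨s, hs.trans (ConcreteCategory.congr_hom
    (((CohTop.pull (CohCx.incl U) ⋙ CohTop.push (CohCx.incl U)).obj J).obj.map_id (op V)) t).symm⟩, hx⟩

theorem nonempty_HZsh_iso :
    Nonempty (LocCohZ.HZsh U 1 ≅
        cokernel (TopCat.Sheaf.pullbackPushforwardAdjunction AddCommGrpCat.{u} (CohCx.incl U)).unit) ∧
      ∀ i : ℕ, 1 ≤ i → Nonempty (LocCohZ.HZsh U (i + 1) ≅
        CohTop.pull (CohCx.incl U) ⋙ CohTop.Rpush (CohCx.incl U) i) := by
  obtain ⟨h1, h2, h3⟩ := pull_exact U
  haveI := h1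
  haveI := h2
  haveI := h3
  haveI : PreservesFiniteLimits (CohTop.push (CohCx.incl U)) := by
    haveI : (CohTop.push (CohCx.incl U)).IsRightAdjoint :=
      (TopCat.Sheaf.pullbackPushforwardAdjunction AddCommGrpCat.{u} (CohCx.incl U)).isRightAdjoint
    haveI : PreservesLimitsOfSize.{0, 0} (CohTop.push (CohCx.incl U)) :=
      (Adjunction.ofIsRightAdjoint (CohTop.push (CohCx.incl U))).rightAdjoint_preservesLimits
    infer_instance
  haveI : PreservesFiniteLimits (CohTop.pull (CohCx.incl U) ⋙ CohTop.push (CohCx.incl U)) :=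
    comp_preservesFiniteLimits _ _
  refine ⟨FunSES.nonempty_rightDerived_one_iso (iotaNat U) (unitNat U) (iota_unit U)
    (fun J _ => shortExact_injective U J), fun i hi => ?_⟩
  obtain ⟨j, rfl⟩ := Nat.exists_eq_add_of_le hi
  rw [Nat.add_comm 1 j]
  exact ⟨(FunSES.deltaIso (iotaNat U) (unitNat U) (iota_unit U) (fun J _ => shortExact_injective U J) j).symm ≪≫
    (Functor.rightUnitor _).symm ≪≫
    ModSite9.derivedComm (CohTop.pull (CohCx.incl U) ⋙ CohTop.push (CohCx.incl U)) (CohTop.push (CohCx.incl U))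
      (CohTop.pull (CohCx.incl U)) (𝟭 _) (Functor.rightUnitor _) (j + 1)⟩

theorem nonempty_RpushOn_iso (q : ℕ) :
    Nonempty (CohCx.RpushOn (𝟙 X) U q ≅ CohTop.restrFunctor U ⋙ CohTop.Rpush (CohCx.incl U) q) := by
  obtain ⟨h1, h2⟩ := restr_exact U
  haveI := h1
  haveI := h2
  exact ⟨(Functor.rightUnitor _).symm ≪≫
    ModSite9.derivedComm (CohTop.restrFunctor U ⋙ CohTop.push (CohCx.incl U ≫ 𝟙 X)) (CohTop.push (CohCx.incl U))
      (CohTop.restrFunctor U) (𝟭 _) (Functor.rightUnitor _) q⟩

end Groth.Agent.LocZ
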