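import Groth.Agent.LocZ.Supp
import Groth.Agent.Lead.Flasque.Leray

/-!
Supported sections of a direct image.
-/

set_option autoImplicit false

universe u

open CategoryTheory CategoryTheory.Limits Opposite TopologicalSpace

namespace Groth.Agent.LocZ

variable {X Y : TopCat.{u}} (f : X ⟶ Y) (V W : Opens Y)

theorem exists_pushSect (F : CohTop.Ab X) (t : ((LocCohZ.sectSuppF V).obj ((CohTop.push f).obj F)).obj.obj (op W)) :
    ∃ t', (iota ((Opens.map f).obj V) F).hom.app (op ((Opens.map f).obj W)) t' =
      (iota V ((CohTop.push f).obj F)).hom.app (op W) t := by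
  rw [exists_iota_iff]
  exact (exists_iota_iff V ((CohTop.push f).obj F) W _).1 ⟨t, rfl⟩

noncomputable def pushSect (F : CohTop.Ab X) :
    ((LocCohZ.sectSuppF V).obj ((CohTop.push f).obj F)).obj.obj (op W) →+
      ((LocCohZ.sectSuppF ((Opens.map f).obj V)).obj F).obj.obj (op ((Opens.map f).obj W)) :=
  AddMonoidHom.mk' (fun t => (exists_pushSect f V W F t).choose) fun a b => by
    apply iota_injective ((Opens.map f).obj V) F ((Opens.map f).obj W)
    exact (exists_pushSect f V W F (a + b)).choose_spec.trans ((map_add _ a b).trans
      ((congrArg₂ (· + ·) (exists_pushSect f V W F a).choose_spec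
        (exists_pushSect f V W F b).choose_spec).symm.trans (map_add _ _ _).symm))

theorem bijective_pushSect (F : CohTop.Ab X) : Function.Bijective (pushSect f V W F) := by
  constructor
  · intro a b e
    apply iota_injective V _ W
    have ha := (exists_pushSect f V W F a).choose_spec
    have hb := (exists_pushSect f V W F b).choose_spec
    exact ha.symm.trans ((congrArg _ e).trans hb)
  · intro t'
    obtain ⟨t, ht⟩ := (exists_iota_iff V ((CohTop.push f).obj F) W
      ((iota ((Opens.map f).obj V) F).hom.app (op ((Opens.map f).obj W)) t')).2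
      ((exists_iota_iff ((Opens.map f).obj V) F ((Opens.map f).obj W) _).1 ⟨t', rfl⟩)
    exact ⟨t, iota_injective _ F _ ((exists_pushSect f V W F t).choose_spec.trans ht)⟩

/-- supported sections of a direct image -/
noncomputable def pushSuppIso :
    CohTop.push f ⋙ LocCohZ.sectSuppF V ⋙ secFun W ≅
      LocCohZ.sectSuppF ((Opens.map f).obj V) ⋙ secFun ((Opens.map f).obj W) :=
  NatIso.ofComponents
    (fun F => (AddEquiv.ofBijective (pushSect f V W F) (bijective_pushSect f V W F)).toAddCommGrpIso)
    (fun {F G} φ => by
      ext t
      apply iota_injective ((Opens.map f).obj V) G ((Opens.map f).obj W)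
      have e1 := ConcreteCategory.congr_hom (NatTrans.congr_app
        (congrArg InducedCategory.Hom.hom (iota_natural ((Opens.map f).obj V) φ)) (op ((Opens.map f).obj W)))
        (pushSect f V W F t)
      have e2 := ConcreteCategory.congr_hom (NatTrans.congr_app
        (congrArg InducedCategory.Hom.hom (iota_natural V ((CohTop.push f).map φ))) (op W)) t
      refine ((exists_pushSect f V W G _).choose_spec.trans e2).trans (Eq.trans ?_ e1.symm)
      exact (congrArg (φ.hom.app (op ((Opens.map f).obj W))) (exists_pushSect f V W F t).choose_spec).symm)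

/-- sections supported in a closed subset are left exact -/
theorem preservesFiniteLimits_suppSec : PreservesFiniteLimits (LocCohZ.sectSuppF V ⋙ secFun W) :=
  preservesFiniteLimits_of_natIso (zqIso (U := V) (inf_le_left : W ⊓ V ≤ W) rfl)

end Groth.Agent.LocZ
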