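import Groth.Agent.LocZ.ModFlasque

/-!
Flasque modules are acyclic for direct images of schemes.
-/

set_option autoImplicit false

universe u

open CategoryTheory CategoryTheory.Limits Opposite TopologicalSpace AlgebraicGeometry

namespace Groth.Agent.LocZ.ModFlasque

variable {X Y : Scheme.{u}} (g : X ⟶ Y)

instance additive_pushforward : (Scheme.Modules.pushforward g).Additive where

/-- the underlying abelian sheaf, as a functor on `X.Modules` -/
noncomputable def tSh (X : Scheme.{u}) : X.Modules ⥤ Sheaf (Opens.grothendieckTopology X.carrier) AddCommGrpCat.{u} :=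
  SheafOfModules.toSheaf.{u} (ModSite.ringSh X.sheaf)

instance additive_tSh (X : Scheme.{u}) : (tSh X).Additive where
  map_add := rfl

theorem isZero_of_toSheaf {M : Y.Modules} (h : IsZero ((tSh Y).obj M)) : IsZero M := by
  rw [IsZero.iff_id_eq_zero]
  apply (SheafOfModules.toSheaf.{u} (ModSite.ringSh Y.sheaf)).map_injective
  exact h.eq_of_src _ _

/-- sections of the direct image -/
noncomputable def pushSecIso (V : Y.Opens) :
    (Scheme.Modules.pushforward g ⋙ tSh Y) ⋙ secFun (X := Y.carrier) V ≅
      tSh X ⋙ SpecSeq.evalFun (Opens.grothendieckTopology X.carrier) ((Opens.map g.base).obj V) :=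
  NatIso.ofComponents (fun _ => Iso.refl _) (fun _ => (Category.comp_id _).trans (Category.id_comp _).symm)

theorem subsingleton_ext_tSh [HasInjectiveResolutions X.Modules] (V : X.Opens) (M : X.Modules)
    [hM : TopCat.Sheaf.IsFlasque (ModSite.toAb (O := X.sheaf) M)] (i : ℕ) :
    IsZero (((tSh X ⋙ SpecSeq.evalFun (Opens.grothendieckTopology X.carrier) V).rightDerived (i + 1)).obj M) := by
  haveI : HasInjectiveResolutions (ModSite.Mod X.sheaf) := ‹HasInjectiveResolutions X.Modules›
  exact subsingleton_ext_free X.sheaf V M i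

theorem preservesHomology_tSh (X : Scheme.{u}) : (tSh X).PreservesHomology := by
  haveI : PreservesColimitsOfSize.{u, u} (tSh X) :=
    Groth.Agent.ModTensor.preservesColimits_toSheaf (O := X.sheaf)
  haveI : PreservesFiniteColimits (tSh X) := inferInstance
  haveI : PreservesFiniteLimits (SheafOfModules.toSheaf.{u} (ModSite.ringSh X.sheaf)) := inferInstance
  haveI : PreservesFiniteLimits (tSh X) := this
  infer_instance

theorem acyc_pushforward [HasInjectiveResolutions X.Modules] [EnoughInjectives X.Modules] (M : X.Modules)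
    [hM : TopCat.Sheaf.IsFlasque (ModSite.toAb (O := X.sheaf) M)] :
    RFPlus.Acyc (Scheme.Modules.pushforward g) M := by
  rintro (_ | i) hi
  · simp at hi
  haveI := preservesHomology_tSh Y
  have hT : IsZero (((Scheme.Modules.pushforward g ⋙ tSh Y).rightDerived (i + 1)).obj M) :=
    isZero_rightDerived_of_sections (X := Y.carrier) _ M i fun V =>
      (subsingleton_ext_tSh ((Opens.map g.base).obj V) M i).of_iso
        ((rightDerivedIso (pushSecIso g V) (i + 1)).app M)
  exact isZero_of_toSheaf (hT.of_iso ((Groth.Agent.ModSite9.derivedComm (Scheme.Modules.pushforward g)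
    (Scheme.Modules.pushforward g ⋙ tSh Y) (𝟭 _) (tSh Y) (Iso.refl _) (i + 1)).app M))

theorem isFlasque_pushforward {Z : Scheme.{u}} (f : Z ⟶ X) (M : Z.Modules)
    [hM : TopCat.Sheaf.IsFlasque (ModSite.toAb (O := Z.sheaf) M)] :
    TopCat.Sheaf.IsFlasque (ModSite.toAb (O := X.sheaf) ((Scheme.Modules.pushforward f).obj M)) := by
  constructor
  intro V W i
  exact hM.epi ((Opens.map f.base).op.map i)

end Groth.Agent.LocZ.ModFlasque
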