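import Groth.Agent.LocZ.Basic
import Groth.Agent.SpecSeq.Sections
import Groth.Agent.RFPlus.Acyc
import Groth.Agent.Lead.Flasque.Top

/-!
Sections with supports and their derived functors.
-/

set_option autoImplicit false

universe u

open CategoryTheory CategoryTheory.Limits Opposite TopologicalSpace Abelian

namespace Groth.Agent.LocZ

variable {X : TopCat.{u}} {U W V : Opens X}

theorem exists_sect (h : W ≤ V) (hW : V ⊓ U = W) (F : CohTop.Ab X) (g : LocCohZ.zq h ⟶ F) :
    ∃ t, (iota U F).hom.app (op V) t =
      CohFree.evalGen (Opens.grothendieckTopology X) V F (cokernel.π _ ≫ g) := by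
  rw [exists_iota_iff, map_eq_zero_congr F hW inf_le_left h, ← CohFree.evalGen_freeSheafMap_comp,
    cokernel.condition_assoc, zero_comp, map_zero]

/-- maps out of `ℤ_V/ℤ_W` to supported sections -/
noncomputable def toSupp (h : W ≤ V) (hW : V ⊓ U = W) (F : CohTop.Ab X) :
    (LocCohZ.zq h ⟶ F) →+ ((LocCohZ.sectSuppF U).obj F).obj.obj (op V) :=
  AddMonoidHom.mk' (fun g => (exists_sect h hW F g).choose) fun g g' => by
    apply iota_injective U F V
    rw [map_add, (exists_sect h hW F g).choose_spec, (exists_sect h hW F g').choose_spec,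
      (exists_sect h hW F (g + g')).choose_spec, Preadditive.comp_add, map_add]

theorem iota_toSupp (h : W ≤ V) (hW : V ⊓ U = W) (F : CohTop.Ab X) (g : LocCohZ.zq h ⟶ F) :
    (iota U F).hom.app (op V) (toSupp h hW F g) =
      CohFree.evalGen (Opens.grothendieckTopology X) V F (cokernel.π _ ≫ g) :=
  (exists_sect h hW F g).choose_spec

theorem bijective_toSupp (h : W ≤ V) (hW : V ⊓ U = W) (F : CohTop.Ab X) :
    Function.Bijective (toSupp h hW F) := by
  constructor
  · intro g g' e
    have e' := congrArg (fun t => (iota U F).hom.app (op V) t) e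
    simp only [iota_toSupp] at e'
    apply (cancel_epi (cokernel.π _)).1
    exact (CohFree.homEquivSect (Opens.grothendieckTopology X) V F).injective e'
  · intro t
    have ht : F.obj.map (homOfLE h).op ((iota U F).hom.app (op V) t) = 0 :=
      (map_eq_zero_congr F hW inf_le_left h _).1 ((exists_iota_iff U F V _).1 ⟨t, rfl⟩)
    have hz : CohCx.freeSheafMap (Opens.grothendieckTopology X) (homOfLE h) ≫
        CohFree.ofSect (Opens.grothendieckTopology X) V F ((iota U F).hom.app (op V) t) = 0 := by
      apply (CohFree.homEquivSect (Opens.grothendieckTopology X) W F).injective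
      rw [map_zero, CohFree.homEquivSect_apply, CohFree.evalGen_freeSheafMap_comp, CohFree.evalGen_ofSect]
      exact ht
    refine ⟨cokernel.desc _ _ hz, iota_injective U F V ?_⟩
    rw [iota_toSupp, cokernel.π_desc, CohFree.evalGen_ofSect]

/-- `Hom(ℤ_V/ℤ_W, -)` is the functor of supported sections -/
noncomputable def zqIso (h : W ≤ V) (hW : V ⊓ U = W) :
    preadditiveCoyoneda.obj (op (LocCohZ.zq h)) ≅ LocCohZ.sectSuppF U ⋙ secFun V :=
  NatIso.ofComponents
    (fun F => (AddEquiv.ofBijective (toSupp h hW F) (bijective_toSupp h hW F)).toAddCommGrpIso)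
    (fun {F G} φ => by
      ext g
      apply iota_injective U G V
      show (iota U G).hom.app (op V) (toSupp h hW G (g ≫ φ)) =
        (iota U G).hom.app (op V) (((LocCohZ.sectSuppF U).map φ).hom.app (op V) (toSupp h hW F g))
      have e := ConcreteCategory.congr_hom (NatTrans.congr_app
        (congrArg InducedCategory.Hom.hom (iota_natural U φ)) (op V)) (toSupp h hW F g)
      refine (iota_toSupp h hW G (g ≫ φ)).trans (Eq.trans ?_ e.symm)
      show _ = φ.hom.app (op V) ((iota U F).hom.app (op V) (toSupp h hW F g))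
      rw [iota_toSupp, ← Category.assoc]
      rfl)

instance additive_suppSec (U V : Opens X) : (LocCohZ.sectSuppF U ⋙ secFun V).Additive :=
  inferInstance

theorem nonempty_HZ_iso_rightDerived (h : W ≤ V) (hW : V ⊓ U = W) (F : CohTop.Ab X) (n : ℕ) :
    Nonempty (AddCommGrpCat.of (LocCohZ.HZ F n h) ≅
      ((LocCohZ.sectSuppF U ⋙ secFun V).rightDerived n).obj F) := by
  obtain ⟨e⟩ := SpecSeq.nonempty_ext_iso_rightDerived (LocCohZ.zq h) F n
  exact ⟨e ≪≫ ((injectiveResolution F).isoRightDerivedObj _ n) ≪≫
    (HomologicalComplex.homologyFunctor _ _ n).mapIso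
      ((NatIso.mapHomologicalComplex (zqIso h hW) _).app _) ≪≫
    ((injectiveResolution F).isoRightDerivedObj _ n).symm⟩

/-- flasque sheaves are acyclic for sections -/
theorem acyc_secFun_of_isFlasque (V : Opens X) (F : CohTop.Ab X) [TopCat.Sheaf.IsFlasque F] :
    RFPlus.Acyc (SpecSeq.evalFun (Opens.grothendieckTopology X) V) F := by
  rintro (_ | i) hi
  · simp at hi
  · obtain ⟨e⟩ := SpecSeq.nonempty_HU_iso_rightDerived (Opens.grothendieckTopology X) V F (i + 1)
    haveI : Subsingleton (AddCommGrpCat.of (CohTop.HU F (i + 1) V)) :=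
      Lead.Flasque.Top.subsingleton_HU F i V
    exact (AddCommGrpCat.isZero_of_subsingleton (AddCommGrpCat.of (CohTop.HU F (i + 1) V))).of_iso e.symm

end Groth.Agent.LocZ
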