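import Groth.Agent.LocZ.Derived

/-!
Vanishing of the local cohomology sheaves and of the cohomology with supports on opens.
-/

set_option autoImplicit false

universe v v' u u'

open CategoryTheory CategoryTheory.Limits Opposite TopologicalSpace Abelian

namespace Groth.Agent.LocZ

variable {X : TopCat.{u}}

/-- For a complex of flasque sheaves exact in degrees `< n` the complexes of sections are exact there. -/
theorem sections_exactAt (K : CochainComplex (CohTop.Ab X) ℕ) (hK : ∀ j, TopCat.Sheaf.IsFlasque (K.X j))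
    (n : ℕ) (h : ∀ i, i < n → K.ExactAt i) (i : ℕ) (hi : i < n) (V : Opens X) :
    (((secFun V).mapHomologicalComplex (ComplexShape.up ℕ)).obj K).ExactAt i := by
  have hflasque : ∀ j, j < n → TopCat.Sheaf.IsFlasque (kernel (K.d j (j + 1))) := by
    intro j
    induction j with
    | zero =>
      intro hj
      have h0 := h 0 hj
      rw [HomologicalComplex.exactAt_iff' _ 0 0 1 (CochainComplex.prev_nat_zero) (by simp)] at h0
      haveI : Mono (K.d 0 1) := h0.mono_g (K.shape _ _ (by simp))
      have hz : IsZero (kernel (K.d 0 1)) := isZero_kernel_of_mono _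
      constructor
      intro U V i
      have : IsZero ((kernel (K.d 0 1)).obj.obj V) := (secFun V.unop).map_isZero hz
      rw [AddCommGrpCat.epi_iff_surjective]
      intro x
      exact ⟨0, @Subsingleton.elim _ (AddCommGrpCat.subsingleton_of_isZero this) _ _⟩
    | succ j ih =>
      intro hj
      have hx := h (j + 1) hj
      rw [HomologicalComplex.exactAt_iff' _ j (j + 1) (j + 2) (by simp) (by simp only [CochainComplex.next]; rfl)] at hx
      let g := kernel.lift (K.d (j + 1) (j + 2)) (K.d j (j + 1)) (K.d_comp_d _ _ _)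
      let S : ShortComplex (CohTop.Ab X) := ShortComplex.mk (kernel.ι (K.d j (j + 1))) g (by
        rw [← cancel_mono (kernel.ι _), Category.assoc, kernel.lift_ι, kernel.condition, zero_comp])
      have hg : Epi g := (ShortComplex.exact_iff_epi_kernel_lift _).1 hx
      have hk : IsLimit (KernelFork.ofι (kernel.ι (K.d j (j + 1))) S.zero) :=
        KernelFork.IsLimit.ofι' _ _ fun {W} k hk => by
          refine ⟨kernel.lift _ k ?_, kernel.lift_ι _ _ _⟩
          have := congrArg (· ≫ kernel.ι _) hk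
          simpa [g, S, Category.assoc] using this
      have hS : S.ShortExact :=
        ShortComplex.ShortExact.mk' (ShortComplex.exact_of_f_is_kernel _ hk)
          (inferInstance : Mono (kernel.ι (K.d j (j + 1)))) hg
      haveI : TopCat.Sheaf.IsFlasque S.X₁ := ih (by omega)
      haveI : TopCat.Sheaf.IsFlasque S.X₂ := hK j
      exact TopCat.Sheaf.IsFlasque.of_shortExact_of_isFlasque₁₂ hS
  cases i with
  | zero =>
    have h0 := h 0 hi
    rw [HomologicalComplex.exactAt_iff' _ 0 0 1 (CochainComplex.prev_nat_zero) (by simp)] at h0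
    haveI : Mono (K.d 0 1) := h0.mono_g (K.shape _ _ (by simp))
    rw [HomologicalComplex.exactAt_iff' _ 0 0 1 (CochainComplex.prev_nat_zero) (by simp),
      ShortComplex.ab_exact_iff]
    intro s hs
    refine ⟨0, ?_⟩
    have : Mono ((secFun V).map (K.d 0 1)) := inferInstance
    have hs' : ((secFun V).map (K.d 0 1)) s = 0 := hs
    rw [map_zero]
    exact ((AddCommGrpCat.mono_iff_injective _).1 this (hs'.trans (map_zero _).symm)).symm
  | succ j =>
    have hx := h (j + 1) hi
    rw [HomologicalComplex.exactAt_iff' _ j (j + 1) (j + 2) (by simp) (by simp only [CochainComplex.next]; rfl)] at hx ⊢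
    rw [ShortComplex.ab_exact_iff]
    intro s hs
    let g := kernel.lift (K.d (j + 1) (j + 2)) (K.d j (j + 1)) (K.d_comp_d _ _ _)
    let S : ShortComplex (CohTop.Ab X) := ShortComplex.mk (kernel.ι (K.d j (j + 1))) g (by
      rw [← cancel_mono (kernel.ι _), Category.assoc, kernel.lift_ι, kernel.condition, zero_comp])
    have hg : Epi g := (ShortComplex.exact_iff_epi_kernel_lift _).1 hx
    have hk : IsLimit (KernelFork.ofι (kernel.ι (K.d j (j + 1))) S.zero) :=
      KernelFork.IsLimit.ofι' _ _ fun {W} k hk => by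
        refine ⟨kernel.lift _ k ?_, kernel.lift_ι _ _ _⟩
        have := congrArg (· ≫ kernel.ι _) hk
        simpa [g, S, Category.assoc] using this
    have hS : S.ShortExact :=
      ShortComplex.ShortExact.mk' (ShortComplex.exact_of_f_is_kernel _ hk)
        (inferInstance : Mono (kernel.ι (K.d j (j + 1)))) hg
    haveI : TopCat.Sheaf.IsFlasque S.X₁ := hflasque j (by omega)
    let L : ShortComplex (CohTop.Ab X) :=
      ShortComplex.mk (kernel.ι (K.d (j + 1) (j + 2))) (K.d (j + 1) (j + 2)) (kernel.condition _)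
    obtain ⟨z, hz⟩ := TopCat.Sheaf.sections_exact_of_left_exact (S := L)
      (ShortComplex.exact_of_f_is_kernel _ (kernelIsKernel _))
      (inferInstanceAs (Mono (kernel.ι (K.d (j + 1) (j + 2))))) (U := V) s hs
    obtain ⟨t, ht⟩ := (AddCommGrpCat.epi_iff_surjective _).1
      (TopCat.Sheaf.IsFlasque.epi_of_shortExact (U := V) hS) z
    refine ⟨t, ?_⟩
    refine Eq.trans ?_ hz
    rw [← ht]
    show (K.d j (j + 1)).hom.app (op V) t = ((g ≫ kernel.ι (K.d (j + 1) (j + 2))).hom.app (op V)) t
    rw [kernel.lift_ι]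

/-- the complex computing local cohomology sheaves -/
noncomputable abbrev suppCx (U : Opens X) (F : CohTop.Ab X) : CochainComplex (CohTop.Ab X) ℕ :=
  ((LocCohZ.sectSuppF U).mapHomologicalComplex (ComplexShape.up ℕ)).obj (injectiveResolution F).cocomplex

theorem isZero_HZsh_iff (U : Opens X) (F : CohTop.Ab X) (i : ℕ) :
    IsZero ((LocCohZ.HZsh U i).obj F) ↔ (suppCx U F).ExactAt i :=
  ((injectiveResolution F).isoRightDerivedObj (LocCohZ.sectSuppF U) i).isZero_iff.trans
    (HomologicalComplex.exactAt_iff_isZero_homology _ _).symm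

theorem subsingleton_HZ_iff (U V : Opens X) (F : CohTop.Ab X) (i : ℕ) :
    Subsingleton (LocCohZ.HZ F i (inf_le_left : V ⊓ U ≤ V)) ↔
      (((secFun V).mapHomologicalComplex (ComplexShape.up ℕ)).obj (suppCx U F)).ExactAt i := by
  obtain ⟨e⟩ := nonempty_HZ_iso_rightDerived (U := U) (inf_le_left : V ⊓ U ≤ V) rfl F i
  refine Iff.trans ⟨fun h => ?_, fun h => AddCommGrpCat.subsingleton_of_isZero h⟩
    ((e ≪≫ (injectiveResolution F).isoRightDerivedObj _ i).isZero_iff.trans
      (HomologicalComplex.exactAt_iff_isZero_homology _ _).symm)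
  haveI : Subsingleton (AddCommGrpCat.of (LocCohZ.HZ F i (inf_le_left : V ⊓ U ≤ V))) := h
  exact AddCommGrpCat.isZero_of_subsingleton (AddCommGrpCat.of (LocCohZ.HZ F i (inf_le_left : V ⊓ U ≤ V)))

theorem vanishing_iff (U : Opens X) (F : CohTop.Ab X) (n : ℕ) :
    (∀ i, i < n → IsZero ((LocCohZ.HZsh U i).obj F)) ↔
      ∀ (V : Opens X) (i : ℕ), i < n → Subsingleton (LocCohZ.HZ F i (inf_le_left : V ⊓ U ≤ V)) := by
  constructor
  · intro h V i hi
    refine (subsingleton_HZ_iff U V F i).2
      (sections_exactAt (suppCx U F) (fun j => ?_) n (fun k hk => (isZero_HZsh_iff U F k).1 (h k hk)) i hi V)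
    haveI := Lead.Flasque.Top.isFlasque_of_injective ((injectiveResolution F).cocomplex.X j)
    exact isFlasque_sectSuppF U _
  · intro h i hi
    rw [isZero_HZsh_iff, HomologicalComplex.exactAt_iff]
    refine Lead.Flasque.Top.exact_of_sections _ fun V s hs => ?_
    have hV := (subsingleton_HZ_iff U V F i).1 (h V i hi)
    rw [HomologicalComplex.exactAt_iff, ShortComplex.ab_exact_iff] at hV
    exact hV s hs

/-- all `H^i_Z` vanish for `i ≤ N` iff restriction is bijective below `N` and injective in degree `N` -/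
theorem subsingleton_iff_res (F : CohTop.Ab X) {W V : Opens X} (h : W ≤ V) (N : ℕ) :
    (∀ i, i ≤ N → Subsingleton (LocCohZ.HZ F i h)) ↔
      (∀ i, i < N → Function.Bijective (CohTop.res F i h)) ∧ Function.Injective (CohTop.res F N h) := by
  have hS := LocCohZ.zqSeq_shortExact h
  constructor
  · intro hz
    have hinj : ∀ i, i ≤ N → Function.Injective (CohTop.res F i h) := fun i hi => by
      rw [injective_iff_map_eq_zero]
      intro x hx
      obtain ⟨y, hy⟩ := Ext.contravariant_sequence_exact₂ hS F x hx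
      rw [← hy, show y = 0 from @Subsingleton.elim _ (hz i hi) _ _]
      exact Ext.comp_zero ..
    refine ⟨fun i hi => ⟨hinj i hi.le, fun x => ?_⟩, hinj N le_rfl⟩
    exact Ext.contravariant_sequence_exact₁ hS F x (n₁ := i + 1) (Nat.add_comm 1 i)
      (@Subsingleton.elim _ (hz (i + 1) hi) _ _)
  · rintro ⟨hb, hN⟩ i hi
    have hinj : ∀ i, i ≤ N → Function.Injective (CohTop.res F i h) := fun i hi => by
      rcases hi.lt_or_eq with h' | rfl
      exacts [(hb i h').1, hN]
    refine subsingleton_of_forall_eq 0 fun y => ?_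
    have hy0 : (Ext.mk₀ (LocCohZ.zqSeq h).g).comp y (zero_add i) = 0 := by
      apply hinj i hi
      refine Eq.trans ?_ (map_zero (CohTop.res F i h)).symm
      show (Ext.mk₀ (LocCohZ.zqSeq h).f).comp ((Ext.mk₀ (LocCohZ.zqSeq h).g).comp y (zero_add i)) (zero_add i) = 0
      rw [Ext.mk₀_comp_mk₀_assoc, (LocCohZ.zqSeq h).zero, Ext.mk₀_zero, Ext.zero_comp]
    cases i with
    | zero =>
      obtain ⟨g, rfl⟩ := Ext.homEquiv₀.symm.surjective y
      have hg : (LocCohZ.zqSeq h).g ≫ g = 0 := by
        apply Ext.homEquiv₀.symm.injective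
        exact ((Ext.mk₀_comp_mk₀ _ g).symm.trans hy0).trans (Ext.mk₀_zero _ _).symm
      haveI := hS.epi_g
      rw [show g = 0 from (cancel_epi (LocCohZ.zqSeq h).g).1 (hg.trans comp_zero.symm)]
      exact Ext.mk₀_zero _ _
    | succ j =>
      obtain ⟨x, hx⟩ := Ext.contravariant_sequence_exact₃ hS F y hy0 (n₀ := j) (Nat.add_comm 1 j)
      obtain ⟨z, hz⟩ := (hb j hi).2 x
      rw [← hx, ← hz]
      exact hS.extClass_comp_assoc _

theorem exact_of_local_sections (S : ShortComplex (CohTop.Ab X))
    (h : ∀ (V : Opens X) (s : S.X₂.obj.obj (op V)), S.g.hom.app (op V) s = 0 → ∀ x ∈ V,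
      ∃ (W : Opens X) (hW : W ≤ V), x ∈ W ∧
        ∃ t : S.X₁.obj.obj (op W), S.f.hom.app (op W) t = S.X₂.obj.map (homOfLE hW).op s) : S.Exact := by
  rw [ShortComplex.exact_iff_epi_kernel_lift]
  refine (TopCat.Sheaf.isLocallySurjective_iff_epi (X := X) _).1 ((TopCat.Presheaf.isLocallySurjective_iff _).2 ?_)
  intro V s x hx
  obtain ⟨W, hW, hxW, t, ht⟩ := h V ((kernel.ι S.g).hom.app (op V) s) (by
    have e : (kernel.ι S.g ≫ S.g).hom.app (op V) = (0 : kernel S.g ⟶ S.X₃).hom.app (op V) := by rw [kernel.condition]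
    exact ConcreteCategory.congr_hom e s) x hx
  refine ⟨W, hW, ⟨t, ?_⟩, hxW⟩
  refine (AddCommGrpCat.mono_iff_injective _).1
    (inferInstance : Mono ((secFun W).map (kernel.ι S.g))) ?_
  show (kernel.ι S.g).hom.app (op W) ((kernel.lift S.g S.f S.zero).hom.app (op W) t) =
    (kernel.ι S.g).hom.app (op W) ((kernel S.g).obj.map (homOfLE hW).op s)
  have e1 := ConcreteCategory.congr_hom (NatTrans.congr_app
    (congrArg InducedCategory.Hom.hom (kernel.lift_ι S.g S.f S.zero)) (op W)) t
  exact (e1.trans ht).trans (NatTrans.naturality_apply (kernel.ι S.g).hom _ _).symm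

/-- vanishing in degree `N + 1` from bijectivity of restriction in degree `N` alone -/
theorem isZero_HZsh_succ_of_surjective (U : Opens X) (F : CohTop.Ab X) (N : ℕ)
    (h : ∀ V : Opens X, Function.Surjective (CohTop.res F N (inf_le_left : V ⊓ U ≤ V))) :
    IsZero ((LocCohZ.HZsh U (N + 1)).obj F) := by
  rw [isZero_HZsh_iff]
  let R := injectiveResolution F
  rw [HomologicalComplex.exactAt_iff' _ N (N + 1) (N + 2) (by simp) (by simp only [CochainComplex.next]; rfl)]
  refine exact_of_local_sections _ fun V s hs x hx => ?_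
  let d₁ := R.cocomplex.d N (N + 1)
  let d₂ := R.cocomplex.d (N + 1) (N + 2)
  let r : (R.cocomplex.X (N + 1)).obj.obj (op V) := (iota U _).hom.app (op V) s
  have hr : d₂.hom.app (op V) r = 0 := by
    have e := ConcreteCategory.congr_hom (NatTrans.congr_app
      (congrArg InducedCategory.Hom.hom (iota_natural U d₂)) (op V)) s
    refine e.symm.trans ?_
    refine (congrArg ((iota U _).hom.app (op V)) hs).trans ?_
    exact map_zero _
  have hepi : Epi (kernel.lift d₂ d₁ (R.cocomplex.d_comp_d _ _ _)) :=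
    (ShortComplex.exact_iff_epi_kernel_lift _).1 (R.exact_succ N)
  let L : ShortComplex (CohTop.Ab X) := ShortComplex.mk (kernel.ι d₂) d₂ (kernel.condition _)
  obtain ⟨z, hz⟩ := TopCat.Sheaf.sections_exact_of_left_exact (S := L)
    (ShortComplex.exact_of_f_is_kernel _ (kernelIsKernel _)) (inferInstanceAs (Mono (kernel.ι d₂))) (U := V) r hr
  obtain ⟨W, hW, ⟨t, ht⟩, hxW⟩ := (TopCat.Presheaf.isLocallySurjective_iff _).1
    ((TopCat.Sheaf.isLocallySurjective_iff_epi (X := X) _).2 hepi) V z x hx
  refine ⟨W, hW, hxW, ?_⟩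
  let sW := ((LocCohZ.sectSuppF U).obj (R.cocomplex.X (N + 1))).obj.map (homOfLE hW).op s
  have hdt : d₁.hom.app (op W) t = (iota U _).hom.app (op W) sW := by
    have e1 := ConcreteCategory.congr_hom (NatTrans.congr_app
      (congrArg InducedCategory.Hom.hom (kernel.lift_ι d₂ d₁ (R.cocomplex.d_comp_d _ _ _))) (op W)) t
    refine e1.symm.trans ((congrArg ((kernel.ι d₂).hom.app (op W)) ht).trans ?_)
    refine (NatTrans.naturality_apply (kernel.ι d₂).hom _ _).trans ?_
    refine (congrArg _ hz).trans ?_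
    exact (NatTrans.naturality_apply (iota U _).hom _ _).symm
  have hWU : W ⊓ U ≤ W := inf_le_left
  obtain ⟨g, hg⟩ := (bijective_toSupp (U := U) hWU rfl (R.cocomplex.X (N + 1))).2 sW
  have hπ : CohFree.ofSect (Opens.grothendieckTopology X) W _ t ≫ d₁ =
      cokernel.π (CohCx.freeSheafMap (Opens.grothendieckTopology X) (homOfLE hWU)) ≫ g := by
    apply (CohFree.homEquivSect (Opens.grothendieckTopology X) W _).injective
    rw [CohFree.homEquivSect_apply, CohFree.homEquivSect_apply, ← iota_toSupp (U := U) hWU rfl, hg, ← hdt]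
    exact congrArg (d₁.hom.app (op W)) (CohFree.evalGen_ofSect _ _ _ t)
  have hgd : g ≫ d₂ = 0 := by
    apply (cancel_epi (cokernel.π (CohCx.freeSheafMap (Opens.grothendieckTopology X) (homOfLE hWU)))).1
    rw [← Category.assoc, ← hπ, Category.assoc, R.cocomplex.d_comp_d, comp_zero, comp_zero]
  have h0 : (Ext.mk₀ (LocCohZ.zqSeq hWU).g).comp (R.extMk (X := LocCohZ.zq hWU) g (N + 2) rfl hgd)
      (zero_add _) = 0 := by
    refine (R.mk₀_comp_extMk _ _ _ _ _).trans ?_
    rw [R.extMk_eq_zero_iff _ _ _ _ N rfl]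
    exact ⟨_, hπ⟩
  obtain ⟨y, hy⟩ := Ext.contravariant_sequence_exact₃ (LocCohZ.zqSeq_shortExact hWU) F _ h0
    (n₀ := N) (Nat.add_comm 1 N)
  obtain ⟨w, hw⟩ := h W y
  have hξ : R.extMk (X := LocCohZ.zq hWU) g (N + 2) rfl hgd = 0 := by
    rw [← hy, ← hw]
    exact (LocCohZ.zqSeq_shortExact hWU).extClass_comp_assoc _
  rw [R.extMk_eq_zero_iff _ _ _ _ N rfl] at hξ
  obtain ⟨g', hg'⟩ := hξ
  refine ⟨toSupp (U := U) hWU rfl _ g', ?_⟩
  have e := ConcreteCategory.congr_hom ((zqIso (U := U) hWU rfl).hom.naturality d₁) g'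
  refine e.symm.trans ?_
  exact (congrArg (toSupp (U := U) hWU rfl _) hg').trans hg

end Groth.Agent.LocZ
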